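import Groth.Agent.PicLift.Thick
import Groth.Agent.QCoh.HHExact
import Mathlib.RingTheory.Flat.Basic

/-!
The ideal of a small extension of a flat family: cohomology vanishes with that of the closed fibre.
-/

set_option autoImplicit false
set_option backward.isDefEq.respectTransparency false
set_option backward.isDefEq.respectTransparency.types false
set_option linter.style.haveILetI false
set_option maxHeartbeats 800000

universe u

open CategoryTheory CategoryTheory.Limits AlgebraicGeometry TopologicalSpace Opposite TensorProduct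

noncomputable section

namespace Groth.Agent.PicLift

open Groth.Agent Groth.Agent.AModX

/-- Annihilators of an element under a flat map. -/
theorem exists_sum_of_mul_eq_zero {B R : Type u} [CommRing B] [CommRing R] [Algebra B R] [Module.Flat B R]
    (M : Ideal B) (a : B) (hann : ∀ x, x * a = 0 ↔ x ∈ M) (r : R) (hr : r * algebraMap B R a = 0) :
    r ∈ M.map (algebraMap B R) := by
  have hex : Function.Exact (Submodule.subtype M) (LinearMap.lsmul B B a) := fun x =>
    ⟨fun hx => ⟨⟨x, (hann x).1 (by rw [mul_comm]; exact hx)⟩, rfl⟩,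
      fun ⟨y, hy⟩ => by
        rw [← hy]
        show a * (y : B) = 0
        rw [mul_comm]
        exact (hann _).2 y.2⟩
  have h0 : (LinearMap.lsmul B B a).lTensor R (r ⊗ₜ[B] (1 : B)) = 0 := by
    rw [LinearMap.lTensor_tmul]
    show r ⊗ₜ[B] (a • (1 : B)) = 0
    rw [← TensorProduct.smul_tmul, Algebra.smul_def, mul_comm, hr, TensorProduct.zero_tmul]
  obtain ⟨z, hz⟩ := (Module.Flat.lTensor_exact R hex _).1 h0
  have hr' := congrArg (TensorProduct.rid B R) hz
  rw [TensorProduct.rid_tmul, one_smul] at hr'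
  rw [← hr']
  clear hz hr' h0
  induction z using TensorProduct.induction_on with
  | zero => simp
  | tmul x m =>
    rw [LinearMap.lTensor_tmul, TensorProduct.rid_tmul, Algebra.smul_def]
    exact Ideal.mul_mem_right _ _ (Ideal.mem_map_of_mem _ m.2)
  | add x y hx hy => rw [map_add, map_add]; exact Ideal.add_mem _ hx hy

variable {B : Type u} [CommRing B] {X Z : Scheme.{u}} {f : X ⟶ Spec (CommRingCat.of B)}

theorem closed_of_sq {B' : Type u} [CommRing B'] {Q : B →+* B'} (hQ : Function.Surjective Q)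
    {t : Z ⟶ X} {g : Z ⟶ Spec (CommRingCat.of B')}
    (sq : IsPullback t g f (Spec.map (CommRingCat.ofHom Q))) : IsClosedImmersion t :=
  MorphismProperty.of_isPullback sq.flip (IsClosedImmersion.spec_of_surjective _ hQ)

/-- The structure map on an open. -/
def str (f : X ⟶ Spec (CommRingCat.of B)) (C : X.Opens) : B →+* Γ(X, C) :=
  ((Scheme.ΓSpecIso (CommRingCat.of B)).inv ≫ f.appLE ⊤ C le_top).hom

theorem str_res (f : X ⟶ Spec (CommRingCat.of B)) {C D : X.Opens} (h : D ≤ C) (b : B) :
    resR h (str f C b) = str f D b := by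
  show ((Scheme.ΓSpecIso (CommRingCat.of B)).inv ≫ f.appLE ⊤ C le_top ≫ X.presheaf.map (homOfLE h).op) b = _
  rw [Scheme.Hom.appLE_map]
  rfl

theorem ideal_ker {B' : Type u} [CommRing B'] {Q : B →+* B'} (hQ : Function.Surjective Q)
    {t : Z ⟶ X} {g : Z ⟶ Spec (CommRingCat.of B')}
    (sq : IsPullback t g f (Spec.map (CommRingCat.ofHom Q))) {C : X.Opens} (hC : IsAffineOpen C) :
    t.ker.ideal ⟨C, hC⟩ = (RingHom.ker Q).map (str f C) := by
  haveI : IsClosedImmersion (Spec.map (CommRingCat.ofHom Q)) := IsClosedImmersion.spec_of_surjective _ hQ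
  have h : t.ker = (Spec.map (CommRingCat.ofHom Q)).ker.comap f := by
    rw [← Scheme.IdealSheafData.ker_fst_of_isClosedImmersion, ← Scheme.Hom.ker_comp_of_isIso sq.isoPullback.hom,
      sq.isoPullback_hom_fst]
  rw [h, ModPairLib.ideal_comap _ f ⟨⊤, isAffineOpen_top _⟩ ⟨C, hC⟩ le_top,
    FComplLib.ker_specMap_ideal Q hQ, Ideal.map_map]
  rfl

theorem flat_str [Flat f] {C : X.Opens} (hC : IsAffineOpen C) : (str f C).Flat := by
  have h1 : (f.appLE ⊤ C le_top).hom.Flat := f.flat_appLE (isAffineOpen_top _) hC le_top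
  exact RingHom.Flat.comp (RingHom.Flat.of_bijective (ConcreteCategory.bijective_of_isIso
    (Scheme.ΓSpecIso (CommRingCat.of B)).inv)) h1

theorem eq_zero_of_affine {M : X.Modules} {W : X.Opens} (s : Γ(M, W))
    (h : ∀ (C : X.Opens), IsAffineOpen C → ∀ hC : C ≤ W, AModX.res M hC s = 0) : s = 0 :=
  QCoh.eq_zero_of_locally W s fun p hp => by
    obtain ⟨C, hC, hpC, hCW⟩ := exists_affine_le hp
    exact ⟨C, homOfLE hCW, hpC, h C hC hCW⟩

section Step

variable [Flat f] {k B₁ : Type u} [Field k] [CommRing B₁] {P : B →+* k} (hP : Function.Surjective P)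
  {Q : B →+* B₁} (hQ : Function.Surjective Q) {a : B} (hker : RingHom.ker Q = Ideal.span {a})
  (hann : ∀ x, x * a = 0 ↔ P x = 0)
  {X₁ X₀ : Scheme.{u}} {t : X₁ ⟶ X} {g : X₁ ⟶ Spec (CommRingCat.of B₁)}
  (sq : IsPullback t g f (Spec.map (CommRingCat.ofHom Q)))
  {j : X₀ ⟶ X} {g₀ : X₀ ⟶ Spec (CommRingCat.of k)}
  (sq₀ : IsPullback j g₀ f (Spec.map (CommRingCat.ofHom P)))

include hP hQ hker hann sq sq₀ in
/-- The ideal of a small extension is the structure sheaf of the closed fibre. -/
theorem subsingleton_smallExt (q : ℕ) (h0 : Subsingleton (Coh.HH X₀ (Coh.structureModule X₀) q)) :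
    Subsingleton (Coh.HH X (ClSub.idealMod t.ker) q) := by
  haveI : IsClosedImmersion t := closed_of_sq hQ sq
  haveI : IsClosedImmersion j := closed_of_sq hP sq₀
  -- multiplication by `a`
  let O := Coh.structureModule X
  let μ : O ⟶ O := InvX.ofSect (M := Coh.structureModule X) (str f ⊤ a)
  have hμ : ∀ (W : X.Opens) (r : Γ(X, W)), μ.app W r = r * str f W a := fun W r => by
    refine (InvX.app_eq_smul μ r).trans ?_
    rw [InvX.one_ofSect]
    show r * resR (le_top : W ≤ ⊤) (str f ⊤ a) = _
    exact congrArg (r * ·) (str_res f le_top a)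
  have ha : ∀ (C : X.Opens) (hC : IsAffineOpen C), t.ker.ideal ⟨C, hC⟩ = Ideal.span {str f C a} := fun C hC => by
    rw [ideal_ker hQ sq hC, hker, Ideal.map_span, Set.image_singleton]
  have hμ0 : μ ≫ ClSub.toSubscheme t.ker = 0 := QCoh.hom_ext_app fun W r => by
    show t.ker.subschemeι.app W (μ.app W r) = 0
    rw [hμ, map_mul]
    have : t.ker.subschemeι.app W (str f W a) = 0 := by
      refine (ker_app_iff t _).2 ?_
      have e1 : t.app ⊤ (str f ⊤ a) = 0 := by
        show ((Scheme.ΓSpecIso (CommRingCat.of B)).inv ≫ f.appLE ⊤ ⊤ le_top ≫ t.app ⊤) a = 0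
        have hsq : f.appTop ≫ t.appTop = (Spec.map (CommRingCat.ofHom Q)).appTop ≫ g.appTop := by
          rw [← Scheme.Hom.comp_appTop, ← Scheme.Hom.comp_appTop, sq.w]
        have eA : f.appLE ⊤ ⊤ le_top = f.appTop := by simp [Scheme.Hom.appLE]
        rw [eA]
        show ((Scheme.ΓSpecIso (CommRingCat.of B)).inv ≫ f.appTop ≫ t.appTop) a = 0
        rw [hsq, ← Category.assoc, ← Scheme.ΓSpecIso_inv_naturality, Category.assoc, CommRingCat.comp_apply]
        have : CommRingCat.ofHom Q a = 0 := by
          show Q a = 0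
          rw [← RingHom.mem_ker, hker]
          exact Ideal.mem_span_singleton_self a
        rw [this, map_zero]
      rw [← str_res f (le_top : W ≤ ⊤), PicTorsThick.app_resR, e1, map_zero]
    rw [this, mul_zero]
  let φ : O ⟶ ClSub.idealMod t.ker := kernel.lift _ μ hμ0
  have hφ : φ ≫ ClSub.idealModι t.ker = μ := kernel.lift_ι _ _ _
  have hφv : ∀ (W : X.Opens) (r : Γ(X, W)), OmegaSh.idealSect t.ker W (φ.app W r) = r * str f W a := fun W r => by
    rw [← hμ]
    exact congr(Scheme.Modules.Hom.app $hφ W r)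
  haveI : Epi φ := Preadditive.epi_of_cancel_zero _ fun {N} g' hg => QCoh.hom_eq_zero_of_affine g' fun C hC s => by
    have hm := OmegaLib.idealSect_mem t.ker ⟨C, hC⟩ s
    rw [ha C hC, Ideal.mem_span_singleton'] at hm
    obtain ⟨r, hr⟩ := hm
    have e : φ.app C r = s := OmegaLib.idealSect_injective t.ker C ((hφv C r).trans hr)
    rw [← e]
    exact congr(Scheme.Modules.Hom.app $hg C r)
  -- its kernel is the ideal of the closed fibre
  have hz : ∀ (C : X.Opens) (hC : IsAffineOpen C) (r : Γ(X, C)),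
      r * str f C a = 0 ↔ j.ker.subschemeι.app C r = 0 := fun C hC r => by
    rw [← RingHom.mem_ker (f := (j.ker.subschemeι.app C).hom), j.ker.ker_subschemeι_app ⟨C, hC⟩, ideal_ker hP sq₀ hC]
    constructor
    · intro hr
      letI : Algebra B Γ(X, C) := (str f C).toAlgebra
      haveI : Module.Flat B Γ(X, C) := flat_str hC
      exact exists_sum_of_mul_eq_zero (RingHom.ker P) a (fun x => (hann x).trans RingHom.mem_ker.symm) r hr
    · intro hr
      induction hr using Submodule.span_induction with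
      | mem x hx =>
        obtain ⟨b, hb, rfl⟩ := hx
        rw [← map_mul, (hann b).2 hb, map_zero]
      | zero => rw [zero_mul]
      | add x y _ _ hx hy => rw [add_mul, hx, hy, add_zero]
      | smul c x _ hx => rw [smul_eq_mul, mul_assoc, hx, mul_zero]
  have hι0 : ClSub.idealModι j.ker ≫ φ = 0 := QCoh.hom_eq_zero_of_affine _ fun C hC s => by
    refine OmegaLib.idealSect_injective t.ker C ?_
    rw [map_zero]
    refine (hφv C _).trans ((hz C hC _).2 ?_)
    exact OmegaLib.subschemeι_app_idealSect j.ker C s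
  haveI : Mono (ClSub.idealModι j.ker) := inferInstanceAs (Mono (kernel.ι _))
  have hex : (ShortComplex.mk (ClSub.idealModι j.ker) φ hι0).Exact :=
    ShortComplex.exact_of_f_is_kernel _ (KernelFork.IsLimit.ofι' _ _ fun {T} h hh => by
      have h1 : h ≫ ClSub.toSubscheme j.ker = 0 := QCoh.hom_ext_app fun W s => by
        show j.ker.subschemeι.app W (h.app W s) = 0
        refine eq_zero_of_affine (M := Coh.structureModule j.ker.subscheme)
          (W := j.ker.subschemeι ⁻¹ᵁ W) _ fun D hD hDW => ?_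
        refine QCoh.eq_zero_of_locally D _ fun p hp => ?_
        obtain ⟨C, hC, hpC, hCW⟩ := exists_affine_le (W := W) (hDW hp)
        refine ⟨D ⊓ j.ker.subschemeι ⁻¹ᵁ C, homOfLE inf_le_left, ⟨hp, hpC⟩, ?_⟩
        have e2 : j.ker.subschemeι.app C (resR hCW (h.app W s)) = 0 := by
          refine (hz C hC _).1 ?_
          have e3 := congr(Scheme.Modules.Hom.app $hh C (AModX.res T hCW s))
          rw [show resR hCW (h.app W s) = h.app C (AModX.res T hCW s) from (AModX.app_res h hCW s).symm]
          refine (hφv C _).symm.trans ?_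
          exact (congrArg (OmegaSh.idealSect t.ker C) e3).trans (map_zero _)
        rw [PicTorsThick.app_resR] at e2
        show resR inf_le_left (resR hDW (j.ker.subschemeι.app W (h.app W s))) = 0
        rw [resR_resR]
        have e4 := congrArg (resR (inf_le_right : D ⊓ j.ker.subschemeι ⁻¹ᵁ C ≤ _)) e2
        rw [resR_resR, map_zero] at e4
        exact e4
      exact ⟨kernel.lift _ h h1, kernel.lift_ι _ _ _⟩)
  have hS : (ShortComplex.mk (ClSub.idealModι j.ker) φ hι0).ShortExact := .mk' hex inferInstance inferInstance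
  have hS' := DivisorExt.ideal_shortExact j.ker
  let e1 : ClSub.idealMod t.ker ≅ _ := IsColimit.coconePointUniqueUpToIso hS.gIsCokernel hS'.gIsCokernel
  obtain ⟨e2⟩ := DivisorExt.nonempty_quotMod_iso j
  obtain ⟨eq⟩ := QCoh.HH_push_of_isAffineHom j (ProjUPX.isQCoh_of_isInvertible InvX.isInvertible_structureModule) q
  refine QCoh.subsingleton_HH_of_iso (e1 ≪≫ e2).symm q ?_
  first
  | exact eq.toEquiv.subsingleton
  | exact eq.symm.toEquiv.subsingleton

end Step

theorem subsingleton_ker_id (q : ℕ) {t : Z ⟶ X} [IsClosedImmersion t] [IsIso t] :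
    Subsingleton (Coh.HH X (ClSub.idealMod t.ker) q) := by
  refine Euler.subsingleton_HH_of_isZero ((IsZero.iff_id_eq_zero _).2 ?_) q
  refine QCoh.hom_ext_app fun W s => ?_
  refine OmegaLib.idealSect_injective t.ker W ?_
  have h := (ker_app_iff t _).1 (OmegaLib.subschemeι_app_idealSect t.ker W s)
  refine ((map_eq_zero_iff _ (ConcreteCategory.bijective_of_isIso (t.app W)).1).1 h).trans (map_zero _).symm

/-- Vanishing for an ideal spanned by elements killed by the maximal ideal. -/
theorem subsingleton_span (q : ℕ) : ∀ (l : List B) {k B' : Type u} [Field k] [CommRing B'] {P : B →+* k}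
    (_hP : Function.Surjective P) (_hl : ∀ a ∈ l, P a = 0 ∧ ∀ x, P x = 0 → x * a = 0)
    {Q : B →+* B'} (_hQ : Function.Surjective Q) (_hker : RingHom.ker Q = Ideal.span {x | x ∈ l})
    {X : Scheme.{u}} {f : X ⟶ Spec (CommRingCat.of B)} [Flat f]
    {Z X₀ : Scheme.{u}} {t : Z ⟶ X} {g : Z ⟶ Spec (CommRingCat.of B')}
    (_sq : IsPullback t g f (Spec.map (CommRingCat.ofHom Q)))
    {j : X₀ ⟶ X} {g₀ : X₀ ⟶ Spec (CommRingCat.of k)}
    (_sq₀ : IsPullback j g₀ f (Spec.map (CommRingCat.ofHom P)))
    (_h0 : Subsingleton (Coh.HH X₀ (Coh.structureModule X₀) q)),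
    Subsingleton (Coh.HH X (ClSub.idealMod t.ker) q) := by
  intro l
  generalize hlen : l.length = n
  induction n generalizing B with
  | zero =>
    intro k B' _ _ P hP hl Q hQ hker X f _ Z X₀ t g sq j g₀ sq₀ h0
    haveI : IsClosedImmersion t := closed_of_sq hQ sq
    have hbij : Function.Bijective Q := by
      refine ⟨(RingHom.injective_iff_ker_eq_bot _).2 ?_, hQ⟩
      rw [hker, List.length_eq_zero_iff.1 hlen]
      simp
    haveI : IsIso (CommRingCat.ofHom Q) := (ConcreteCategory.isIso_iff_bijective _).2 hbij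
    haveI : IsIso t := sq.isIso_fst_of_isIso
    exact subsingleton_ker_id q
  | succ n ih =>
    intro k B' _ _ P hP hl Q hQ hker X f _ Z X₀ t g sq j g₀ sq₀ h0
    obtain ⟨a, l', rfl⟩ := List.exists_cons_of_length_eq_add_one hlen
    by_cases ha : a = 0
    · refine ih l' (by simpa using hlen) hP (fun b hb => hl b (List.mem_cons_of_mem _ hb)) hQ ?_ sq sq₀ h0
      rw [hker, show {x | x ∈ a :: l'} = insert a {x | x ∈ l'} from Set.ext fun x => List.mem_cons]
      rw [Ideal.span_insert, ha, Ideal.span_singleton_eq_bot.2 rfl, bot_sup_eq]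
    have hPa : ∀ x, x * a = 0 ↔ P x = 0 := fun x => ⟨fun hx => by
      by_contra hne
      obtain ⟨y, hy⟩ := hP (P x)⁻¹
      have h1 := (hl a (List.mem_cons_self ..)).2 (1 - y * x) (by
        rw [map_sub, map_one, map_mul, hy, inv_mul_cancel₀ hne, sub_self])
      rw [sub_mul, one_mul, mul_assoc, hx, mul_zero, sub_zero] at h1
      exact ha h1, (hl a (List.mem_cons_self ..)).2 x⟩
    let B₁ := B ⧸ Ideal.span {a}
    let π : B →+* B₁ := Ideal.Quotient.mk _
    have hπ : Function.Surjective π := Ideal.Quotient.mk_surjective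
    have hQa : Ideal.span {a} ≤ RingHom.ker Q := by
      rw [hker]
      exact Ideal.span_mono (Set.singleton_subset_iff.2 (List.mem_cons_self ..))
    let Q₁ : B₁ →+* B' := Ideal.Quotient.lift _ Q fun x hx => hQa hx
    have hQ₁ : Function.Surjective Q₁ := Ideal.Quotient.lift_surjective_of_surjective _ _ hQ
    have hPa0 : P a = 0 := (hl a (List.mem_cons_self ..)).1
    let P₁ : B₁ →+* k := Ideal.Quotient.lift _ P fun x hx => by
      obtain ⟨c, rfl⟩ := Ideal.mem_span_singleton'.1 hx
      rw [map_mul, hPa0, mul_zero]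
    have hP₁ : Function.Surjective P₁ := Ideal.Quotient.lift_surjective_of_surjective _ _ hP
    let X₁ := pullback f (Spec.map (CommRingCat.ofHom π))
    let i : X₁ ⟶ X := pullback.fst _ _
    let f₁ : X₁ ⟶ Spec (CommRingCat.of B₁) := pullback.snd _ _
    haveI : Flat f₁ := MorphismProperty.pullback_snd f _ inferInstance
    have sqi : IsPullback i f₁ f (Spec.map (CommRingCat.ofHom π)) := IsPullback.of_hasPullback _ _
    haveI : IsClosedImmersion i := closed_of_sq hπ sqi
    have eQ : Spec.map (CommRingCat.ofHom Q₁) ≫ Spec.map (CommRingCat.ofHom π) = Spec.map (CommRingCat.ofHom Q) := by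
      rw [← Spec.map_comp]; rfl
    have eP : Spec.map (CommRingCat.ofHom P₁) ≫ Spec.map (CommRingCat.ofHom π) = Spec.map (CommRingCat.ofHom P) := by
      rw [← Spec.map_comp]; rfl
    let t₁ : Z ⟶ X₁ := pullback.lift t (g ≫ Spec.map (CommRingCat.ofHom Q₁)) (by rw [Category.assoc, eQ, sq.w])
    let j₁ : X₀ ⟶ X₁ := pullback.lift j (g₀ ≫ Spec.map (CommRingCat.ofHom P₁)) (by rw [Category.assoc, eP, sq₀.w])
    have sq₁ : IsPullback t₁ g f₁ (Spec.map (CommRingCat.ofHom Q₁)) := by
      refine IsPullback.of_right ?_ (pullback.lift_snd _ _ _) sqi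
      rw [pullback.lift_fst, eQ]
      exact sq
    have sq₀₁ : IsPullback j₁ g₀ f₁ (Spec.map (CommRingCat.ofHom P₁)) := by
      refine IsPullback.of_right ?_ (pullback.lift_snd _ _ _) sqi
      rw [pullback.lift_fst, eP]
      exact sq₀
    haveI : IsClosedImmersion t₁ := closed_of_sq hQ₁ sq₁
    have hker₁ : RingHom.ker Q₁ = Ideal.span {x | x ∈ l'.map π} := by
      rw [Ideal.ker_quotient_lift, hker,
        show {x | x ∈ a :: l'} = insert a {x | x ∈ l'} from Set.ext fun x => List.mem_cons, Ideal.span_insert,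
        Ideal.map_sup, Ideal.map_quotient_self, bot_sup_eq, Ideal.map_span]
      congr 1
      ext x
      simp
      rfl
    have hA : Subsingleton (Coh.HH X (ClSub.idealMod i.ker) q) :=
      subsingleton_smallExt hP hπ Ideal.mk_ker hPa sqi sq₀ q h0
    have hB : Subsingleton (Coh.HH X₁ (ClSub.idealMod t₁.ker) q) :=
      ih (l'.map π) (by simpa using hlen) hP₁ (fun b hb => by
        obtain ⟨b', hb', rfl⟩ := List.mem_map.1 hb
        refine ⟨(hl b' (List.mem_cons_of_mem _ hb')).1, fun x hx => ?_⟩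
        obtain ⟨x', rfl⟩ := hπ x
        rw [← map_mul, (hl b' (List.mem_cons_of_mem _ hb')).2 x' hx, map_zero]) hQ₁ hker₁ sq₁ sq₀₁ h0
    obtain ⟨u, v, w, hS⟩ := exists_ses_idealMod t₁ i
    obtain ⟨eq⟩ := QCoh.HH_push_of_isAffineHom i (PPSheaf.isQCoh_idealMod t₁.ker) q
    have hB' : Subsingleton (Coh.HH X ((Scheme.Modules.pushforward i).obj (ClSub.idealMod t₁.ker)) q) := by
      first
      | exact eq.toEquiv.subsingleton
      | exact eq.symm.toEquiv.subsingleton
    have hC := QCoh.subsingleton_HH_X₂ hS q hA hB'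
    have e : t₁ ≫ i = t := pullback.lift_fst _ _ _
    rw [← e]
    exact hC


/-- Invertible classes along a square zero closed immersion: injectivity. -/
theorem pullCl_injective {X Z : Scheme.{u}} (t : Z ⟶ X) [IsClosedImmersion t] (hJ : t.ker * t.ker = ⊥) (h1 : Subsingleton (Coh.HH X (ClSub.idealMod t.ker) 1))
    {c d : PicF.Cl X} (hc : PicF.IsInvertibleCl c) (hd : PicF.IsInvertibleCl d)
    (h : PicF.pullCl t c = PicF.pullCl t d) : c = d := by
  haveI : IsIso t.toImage := inferInstance
  refine Pic13Lib.SqZero.pullCl_injective hJ h1 hc hd ?_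
  have e : inv t.toImage ≫ t = t.ker.subschemeι := by rw [IsIso.inv_comp_eq]; exact t.toImage_imageι.symm
  rw [← e, ← PicClLib.pullCl_comp, ← PicClLib.pullCl_comp, h]

/-- Invertible classes along a square zero closed immersion: surjectivity. -/
theorem exists_lift_closed {X Z : Scheme.{u}} (t : Z ⟶ X) [IsClosedImmersion t] (hJ : t.ker * t.ker = ⊥) (h2 : Subsingleton (Coh.HH X (ClSub.idealMod t.ker) 2))
    (L' : Z.Modules) (hL' : PicF.IsInvertible L') :
    ∃ L : X.Modules, PicF.IsInvertible L ∧ Nonempty ((Scheme.Modules.pullback t).obj L ≅ L') := by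
  haveI : IsIso t.toImage := inferInstance
  obtain ⟨L, hL, ⟨e⟩⟩ := exists_lift hJ h2
    ((Scheme.Modules.pullback (inv t.toImage)).obj L') (PicClLib.isInvertible_pullback _ hL')
  exact ⟨L, hL, ⟨(Scheme.Modules.pullbackCongr t.toImage_imageι).symm.app L ≪≫
    ((Scheme.Modules.pullbackComp t.toImage t.ker.subschemeι).app L).symm ≪≫
    (Scheme.Modules.pullback t.toImage).mapIso e ≪≫
    (Scheme.Modules.pullbackComp t.toImage (inv t.toImage)).app L' ≪≫
    (Scheme.Modules.pullbackCongr (IsIso.hom_inv_id t.toImage)).app L' ≪≫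
    (Scheme.Modules.pullbackId _).app L'⟩⟩

end Groth.Agent.PicLift
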