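import Groth.Agent.PicLift.Flat
import Groth.Agent.H26.FMod.HFCompletionBase
import Groth.Agent.Lib.InvEnd

/-!
The ideal of a thickening, and invertible restrictions.
-/

set_option autoImplicit false
set_option backward.isDefEq.respectTransparency false
set_option backward.isDefEq.respectTransparency.types false
set_option linter.style.haveILetI false
set_option maxHeartbeats 800000

universe u

open CategoryTheory CategoryTheory.Limits AlgebraicGeometry TopologicalSpace Opposite

noncomputable section

namespace Groth.Agent.PicLift

open Groth.Agent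

theorem ker_thickι {A : Type u} [CommRing A] {X : Scheme.{u}} (f : X ⟶ Spec (CommRingCat.of A)) (I : Ideal A)
    (n : ℕ) : (CohB1.thickι f I n).ker = (FSch.idealSpec A I).comap f ^ (n + 1) := by
  letI : X.Over (Spec (CommRingCat.of A)) := ⟨f⟩
  refine Scheme.IdealSheafData.ext (funext fun U => ?_)
  refine ((ideal_ker Ideal.Quotient.mk_surjective
    (IsPullback.of_hasPullback f (CohB1.specQuot I n)) U.2).trans ?_).trans
    (H26.FMod.ideal_pow_eq_map I ((FSch.idealSpec A I).comap f) rfl U (n + 1)).symm
  rw [Ideal.mk_ker]
  congr 1

theorem finLocFree_of_ker {X Z : Scheme.{u}} (i : Z ⟶ X) [IsClosedImmersion i] {J : X.IdealSheafData}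
    (hJ : i.ker = J) (M : X.Modules) (h : PicF.IsInvertible ((Scheme.Modules.pullback i).obj M)) :
    FlatMod.IsFinLocFreeOfRank 1 ((Scheme.Modules.pullback J.subschemeι).obj M) := by
  subst hJ
  haveI : IsIso i.toImage := inferInstance
  refine InvEnd.isFinLocFreeOfRank_one (H23.PicMul.isInvertible_of_iso ?_
    (PicClLib.isInvertible_pullback (inv i.toImage) h))
  exact (Scheme.Modules.pullbackComp (inv i.toImage) i).app M ≪≫
    (Scheme.Modules.pullbackCongr (show inv i.toImage ≫ i = i.ker.subschemeι by
      rw [IsIso.inv_comp_eq]; exact i.toImage_imageι.symm)).app M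

end Groth.Agent.PicLift
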