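import Groth.Agent.PicLift.Algebraize
import Groth.Agent.PicLift.ThickKer
import Groth.Agent.AmpleVan.NakayamaFibre
import Groth.Agent.S0060
import Groth.Agent.QCoh.AnnIdeal
import Groth.Agent.QCoh.DevissageP

/-!
Algebraization of compatible closed subschemes of the thickenings of a proper scheme.
-/

set_option autoImplicit false
set_option backward.isDefEq.respectTransparency false
set_option backward.isDefEq.respectTransparency.types false
set_option linter.style.haveILetI false
set_option maxHeartbeats 800000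

universe u

open CategoryTheory CategoryTheory.Limits AlgebraicGeometry TopologicalSpace Opposite

noncomputable section

namespace Groth.Agent.PicLift

open Groth.Agent

section Maps

variable {X X' P : Scheme.{u}}

/-- Restriction of functions between two schemes over a third one. -/
def pushMap (g : X' ⟶ X) (c : X ⟶ P) (c' : X' ⟶ P) (h : g ≫ c = c') :
    (Scheme.Modules.pushforward c).obj (Coh.structureModule X) ⟶
      (Scheme.Modules.pushforward c').obj (Coh.structureModule X') :=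
  ⟨PresheafOfModules.homMk
    { app := fun U => AddCommGrpCat.ofHom
        (g.appLE (c ⁻¹ᵁ U.unop) (c' ⁻¹ᵁ U.unop) (by subst h; exact le_rfl)).hom.toAddMonoidHom
      naturality := fun U V i => by
        ext x
        exact ((ConcreteCategory.congr_hom (g.map_appLE (e := by subst h; exact le_rfl) ((Opens.map c.base).map i.unop).op) x)).trans
          (ConcreteCategory.congr_hom (g.appLE_map (by subst h; exact le_rfl) ((Opens.map c'.base).map i.unop).op) x).symm }
    (fun U r m => by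
      subst h
      show g.appLE _ _ _ (c.app U.unop r * (show Γ(X, c ⁻¹ᵁ U.unop) from m)) =
        (g ≫ c).app U.unop r * g.appLE _ _ _ (show Γ(X, c ⁻¹ᵁ U.unop) from m)
      rw [map_mul]
      congr 1
      exact (ConcreteCategory.congr_hom g.app_eq_appLE (c.app U.unop r)).symm)⟩

theorem pushMap_app (g : X' ⟶ X) (c : X ⟶ P) (c' : X' ⟶ P) (h : g ≫ c = c') (U : P.Opens)
    (x : Γ(X, c ⁻¹ᵁ U)) :
    (pushMap g c c' h).app U x = g.appLE (c ⁻¹ᵁ U) (c' ⁻¹ᵁ U) (by subst h; exact le_rfl) x := rfl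

/-- The map from functions. -/
abbrev unitPush (c : X ⟶ P) : Coh.structureModule P ⟶ (Scheme.Modules.pushforward c).obj (Coh.structureModule X) :=
  SheafOfModules.unitToPushforwardObjUnit c.toRingCatSheafHom

theorem unitPush_app (c : X ⟶ P) (U : P.Opens) (a : Γ(P, U)) : (unitPush c).app U a = c.app U a := rfl

theorem unitPush_pushMap (g : X' ⟶ X) (c : X ⟶ P) (c' : X' ⟶ P) (h : g ≫ c = c') :
    unitPush c ≫ pushMap g c c' h = unitPush c' := by
  refine QCoh.hom_ext_app fun U a => ?_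
  subst h
  show g.appLE _ _ _ (c.app U a) = (g ≫ c).app U a
  exact (ConcreteCategory.congr_hom g.app_eq_appLE (c.app U a)).symm

variable {A : Type u} [CommRing A] [P.Over (Spec (CommRingCat.of A))] {J : Ideal A}

theorem c_app_φsec (c : X ⟶ P) (U : P.Opens) (a : A) :
    c.app U (FFun.φsec (A := A) U a) = str (c ≫ (P ↘ Spec (CommRingCat.of A))) (c ⁻¹ᵁ U) a := by
  show c.app U (P.presheaf.map (homOfLE (le_top : U ≤ ⊤)).op
    ((P ↘ Spec (CommRingCat.of A)).appTop ((Scheme.ΓSpecIso (CommRingCat.of A)).inv a))) =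
      (c ≫ (P ↘ Spec (CommRingCat.of A))).appLE ⊤ (c ⁻¹ᵁ U) le_top ((Scheme.ΓSpecIso (CommRingCat.of A)).inv a)
  rw [← Scheme.Hom.appLE_comp_appLE c (P ↘ Spec (CommRingCat.of A)) ⊤ U (c ⁻¹ᵁ U) le_top le_rfl,
    ← Scheme.Hom.app_eq_appLE]
  rfl

variable {g : X' ⟶ X} {c : X ⟶ P} {c' : X' ⟶ P} (h : g ≫ c = c')
  {q : X' ⟶ Spec (CommRingCat.of (A ⧸ J))}
  (sq : IsPullback g q (c ≫ (P ↘ Spec (CommRingCat.of A))) (Spec.map (CommRingCat.ofHom (Ideal.Quotient.mk J))))
  [IsClosedImmersion c] [IsClosedImmersion c']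

include sq in
theorem pushMap_surjective {U : P.Opens} (hU : IsAffineOpen U) : Function.Surjective ((pushMap g c c' h).app U) := by
  subst h
  intro y
  haveI := closed_of_sq Ideal.Quotient.mk_surjective sq
  obtain ⟨x, hx⟩ := g.app_surjective (c ⁻¹ᵁ U) (hU.preimage c) y
  refine ⟨x, ?_⟩
  show g.appLE _ _ _ x = y
  rw [← hx, Scheme.Hom.app_eq_appLE]
  rfl

include sq in
theorem pushMap_eq_zero {U : P.Opens} (hU : IsAffineOpen U) (x : Γ(X, c ⁻¹ᵁ U)) :
    (pushMap g c c' h).app U x = 0 ↔ x ∈ J.map (str (c ≫ (P ↘ Spec (CommRingCat.of A))) (c ⁻¹ᵁ U)) := by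
  subst h
  haveI := closed_of_sq Ideal.Quotient.mk_surjective sq
  have e := ideal_ker Ideal.Quotient.mk_surjective sq (hU.preimage c)
  rw [Ideal.mk_ker, Scheme.Hom.ker_apply] at e
  rw [← e, RingHom.mem_ker]
  show g.appLE _ _ _ x = 0 ↔ g.app _ x = 0
  rw [Scheme.Hom.app_eq_appLE]
  rfl

include sq in
theorem isCokernel_pushMap [IsNoetherian X] [IsNoetherian X'] :
    ∃ hz : Formal.smulFamily J ((Scheme.Modules.pushforward c).obj (Coh.structureModule X)) ≫ pushMap g c c' h = 0,
      IsIso (cokernel.desc _ _ hz) := by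
  have hM : Coh.IsQCoh ((Scheme.Modules.pushforward c).obj (Coh.structureModule X)) :=
    QCoh.isQCoh_pushforward c QCoh.isQCoh_structureModule
  have hN : Coh.IsQCoh ((Scheme.Modules.pushforward c').obj (Coh.structureModule X')) :=
    QCoh.isQCoh_pushforward c' QCoh.isQCoh_structureModule
  have hsm : ∀ a ∈ J, Formal.smulMod A _ a ≫ pushMap g c c' h = 0 := fun a ha =>
    FFun.hom_eq_zero_of_cover hM hN _ (fun i : P.affineOpens => i.1) (fun i => i.2)
      (fun x => by
        obtain ⟨_, ⟨V, hV, rfl⟩, hxV, -⟩ := P.isBasis_affineOpens.exists_subset_of_mem_open (Set.mem_univ x) isOpen_univ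
        exact ⟨⟨V, hV⟩, hxV⟩) fun U x => by
        show (pushMap g c c' h).app U.1 ((Formal.smulMod A _ a).app U.1 x) = 0
        rw [FFun.smulMod_app]
        refine (pushMap_eq_zero h sq U.2 _).2 ?_
        show c.app U.1 (FFun.φsec (A := A) U.1 a) * (show Γ(X, c ⁻¹ᵁ U.1) from x) ∈ _
        rw [c_app_φsec]
        exact Ideal.mul_mem_right _ _ (Ideal.mem_map_of_mem _ ha)
  have hz : Formal.smulFamily J ((Scheme.Modules.pushforward c).obj (Coh.structureModule X)) ≫ pushMap g c c' h = 0 := by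
    refine Sigma.hom_ext _ _ fun a => ?_
    rw [comp_zero, ← Category.assoc]
    exact (congrArg (· ≫ _) (Sigma.ι_desc _ _)).trans (hsm a.1 a.2)
  refine ⟨hz, QCoh.isIso_of_isBasis _ P.isBasis_affineOpens fun U hU => ?_⟩
  have hC : Coh.IsQCoh (cokernel (Formal.smulFamily J ((Scheme.Modules.pushforward c).obj (Coh.structureModule X)))) :=
    QCoh.isQCoh_cokernel (QCoh.isQCoh_colimit _ fun _ => hM) hM _
  have hd : ∀ x, (cokernel.desc _ _ hz).app U ((cokernel.π (Formal.smulFamily J ((Scheme.Modules.pushforward c).obj (Coh.structureModule X)))).app U x) = (pushMap g c c' h).app U x := fun x =>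
    congr(($(cokernel.π_desc _ _ hz)).app U x)
  refine ⟨(injective_iff_map_eq_zero _).2 fun z hz0 => ?_, fun y => ?_⟩
  · obtain ⟨x, rfl⟩ := QCoh.app_surjective_of_epi hM hC (cokernel.π _) hU z
    rw [hd] at hz0
    refine FFun.π_app_eq_zero _ J U ?_
    obtain hx := (pushMap_eq_zero h sq hU x).1 hz0
    refine Submodule.span_induction (p := fun (r : Γ(X, c ⁻¹ᵁ U)) _ => (show Γ((Scheme.Modules.pushforward c).obj (Coh.structureModule X), U) from r) ∈
      J.map (FFun.φsec (A := A) U) • (⊤ : Submodule Γ(P, U) Γ((Scheme.Modules.pushforward c).obj (Coh.structureModule X), U)))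
      ?_ ?_ ?_ ?_ hx
    · rintro _ ⟨a, ha, rfl⟩
      have := Submodule.smul_mem_smul (Ideal.mem_map_of_mem (FFun.φsec (A := A) U) ha)
        (Submodule.mem_top (x := (show Γ((Scheme.Modules.pushforward c).obj (Coh.structureModule X), U) from (1 : Γ(X, c ⁻¹ᵁ U)))))
      convert this using 1
      show _ = c.app U (FFun.φsec (A := A) U a) * 1
      rw [mul_one, c_app_φsec]
    · exact zero_mem _
    · exact fun r r' _ _ hr hr' => add_mem hr hr'
    · intro b r _ hr
      refine Submodule.smul_induction_on (p := fun (m : Γ((Scheme.Modules.pushforward c).obj (Coh.structureModule X), U)) => (show Γ((Scheme.Modules.pushforward c).obj (Coh.structureModule X), U) from b * (show Γ(X, c ⁻¹ᵁ U) from m)) ∈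
        J.map (FFun.φsec (A := A) U) • (⊤ : Submodule Γ(P, U) Γ((Scheme.Modules.pushforward c).obj (Coh.structureModule X), U)))
        hr (fun a ha m _ => ?_) (fun m m' hm hm' => ?_)
      · have := Submodule.smul_mem_smul ha
          (Submodule.mem_top (x := (show Γ((Scheme.Modules.pushforward c).obj (Coh.structureModule X), U) from b * (show Γ(X, c ⁻¹ᵁ U) from m))))
        convert this using 1
        exact mul_left_comm b (c.app U a) (show Γ(X, c ⁻¹ᵁ U) from m)
      · show b * ((show Γ(X, c ⁻¹ᵁ U) from m) + (show Γ(X, c ⁻¹ᵁ U) from m')) ∈ _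
        rw [mul_add]
        exact add_mem hm hm'
  · obtain ⟨x, hx⟩ := pushMap_surjective h sq hU y
    exact ⟨(cokernel.π (Formal.smulFamily J ((Scheme.Modules.pushforward c).obj (Coh.structureModule X)))).app U x, (hd x).trans hx⟩

end Maps

section Jacobson

variable {A : Type u} [CommRing A] {X : Scheme.{u}} [X.Over (Spec (CommRingCat.of A))]
  [IsProper (X ↘ Spec (CommRingCat.of A))]

/-- Over a base ring with `I` in the Jacobson radical, fixed sections vanish. -/
theorem isZero_of_fixed_jacobson {I : Ideal A} (hI : I ≤ Ideal.jacobson ⊥) {K : X.Modules} (hK : Coh.IsQCoh K)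
    (h : ∀ (U : X.Opens), IsAffineOpen U → ∀ s : Γ(K, U), ∃ a ∈ I.map (FFun.φsec (A := A) U), a • s = s) :
    IsZero K := by
  refine (IsZero.iff_id_eq_zero K).2 (QCoh.hom_ext_app fun W s => ?_)
  show s = 0
  refine TopCat.Sheaf.eq_of_locally_eq' ⟨K.presheaf, K.isSheaf⟩
    (fun V : {V : X.Opens // V ≤ W ∧ ∀ hV : V ≤ W, K.presheaf.map (homOfLE hV).op s = 0} => V.1) W
    (fun V => homOfLE V.2.1) (fun x hx => ?_) _ _ fun V => ((V.2.2 V.2.1).trans (map_zero _).symm)
  obtain ⟨z, hxz, hzI⟩ : ∃ z, x ⤳ z ∧ I ≤ ((X ↘ Spec (CommRingCat.of A)) z : PrimeSpectrum A).asIdeal := by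
    have hcl : IsClosed ((X ↘ Spec (CommRingCat.of A)).base '' closure {x}) :=
      (X ↘ Spec (CommRingCat.of A)).isClosedMap _ isClosed_closure
    let p : PrimeSpectrum A := (X ↘ Spec (CommRingCat.of A)) x
    obtain ⟨m, hm, hpm⟩ := p.asIdeal.exists_le_maximal p.isPrime.ne_top
    have h2 : (⟨m, hm.isPrime⟩ : PrimeSpectrum A) ∈ (X ↘ Spec (CommRingCat.of A)).base '' closure {x} :=
      ((PrimeSpectrum.le_iff_specializes p ⟨m, hm.isPrime⟩).1 hpm).mem_closed hcl ⟨x, subset_closure rfl, rfl⟩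
    obtain ⟨z, hz, hzm⟩ := h2
    refine ⟨z, specializes_iff_mem_closure.2 hz, fun a ha => ?_⟩
    have : a ∈ m := (sInf_le ⟨bot_le, hm⟩ : Ideal.jacobson ⊥ ≤ m) (hI ha)
    rw [hzm]; exact this
  obtain ⟨_, ⟨U, hU, rfl⟩, hzU, -⟩ :=
    X.isBasis_affineOpens.exists_subset_of_mem_open (Set.mem_univ z) isOpen_univ
  have hU' : IsAffineOpen U := hU
  obtain ⟨g, hgW, hxg⟩ := hU'.exists_basicOpen_le (V := W) ⟨x, hx⟩ (hxz.mem_open U.2 hzU)
  obtain ⟨n, t, ht⟩ := QCoh.exists_pow_smul_eq_map hK hU' g (K.presheaf.map (homOfLE hgW).op s)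
  obtain ⟨a, ha, hat⟩ := h U hU' t
  have hz' : z ∈ X.basicOpen (1 - a) := by
    rw [X.mem_basicOpen _ z hzU, map_sub, map_one]
    refine (IsLocalRing.isUnit_or_isUnit_one_sub_self _).resolve_left fun hu => ?_
    have hmem : a ∈ (IsLocalRing.maximalIdeal (X.presheaf.stalk z)).comap (X.presheaf.germ U z hzU).hom := by
      refine Ideal.map_le_iff_le_comap.2 (fun b hb => ?_) ha
      rw [Ideal.mem_comap, Ideal.mem_comap, IsLocalRing.mem_maximalIdeal, mem_nonunits_iff]
      intro hb'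
      have e : FFun.φsec (A := A) U b =
          X.presheaf.map (homOfLE (le_top : U ≤ ⊤)).op (Coh.toGlobal (X ↘ Spec (CommRingCat.of A)) b) := rfl
      rw [e, TopCat.Presheaf.germ_res_apply] at hb'
      have h1 : z ∈ X.basicOpen (Coh.toGlobal (X ↘ Spec (CommRingCat.of A)) b) := (X.mem_basicOpen _ _ _).2 hb'
      rw [show Coh.toGlobal (X ↘ Spec (CommRingCat.of A)) b =
        (X ↘ Spec (CommRingCat.of A)).appTop ((Scheme.ΓSpecIso (CommRingCat.of A)).inv b) from rfl,
        ← Scheme.preimage_basicOpen_top, basicOpen_eq_of_affine'] at h1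
      rw [Iso.inv_hom_id_apply] at h1
      exact (show b ∉ ((X ↘ Spec (CommRingCat.of A)) z : PrimeSpectrum A).asIdeal from h1) (hzI hb)
    exact (IsLocalRing.mem_maximalIdeal _).1 (Ideal.mem_comap.1 hmem) hu
  let D := X.basicOpen g ⊓ X.basicOpen (1 - a)
  refine Opens.mem_iSup.2 ⟨⟨D, inf_le_left.trans hgW, fun hV => ?_⟩, hxg, hxz.mem_open (X.basicOpen (1 - a)).2 hz'⟩
  have h1 : (1 - a) • t = 0 := by rw [sub_smul, one_smul, hat, sub_self]
  have hu1 : IsUnit (X.presheaf.map (homOfLE (inf_le_right.trans (X.basicOpen_le (1 - a)) : D ≤ U)).op (1 - a)) := by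
    have := (RingedSpace.isUnit_res_basicOpen _ (1 - a)).map (X.presheaf.map (homOfLE (inf_le_right : D ≤ X.basicOpen (1 - a))).op).hom
    exact (congrArg IsUnit (QCoh.ringMap_map _ _ _)).mp this
  have htD : K.presheaf.map (homOfLE (inf_le_right.trans (X.basicOpen_le (1 - a)) : D ≤ U)).op t = 0 := by
    refine hu1.smul_eq_zero.1 ?_
    rw [← QCoh.map_smul', h1, map_zero]
  have e := congrArg (K.presheaf.map (homOfLE (inf_le_left : D ≤ X.basicOpen g)).op) ht
  rw [QCoh.map_map, QCoh.map_smul', QCoh.map_map] at e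
  have hu2 : IsUnit (X.presheaf.map (homOfLE (inf_le_left : D ≤ X.basicOpen g)).op
      (X.presheaf.map (homOfLE (X.basicOpen_le g)).op g ^ n)) :=
    ((RingedSpace.isUnit_res_basicOpen _ g).pow n).map _
  refine hu2.smul_eq_zero.1 (Eq.trans ?_ htD)
  exact e.symm

end Jacobson

section Main

variable {A : Type u} [CommRing A] [IsNoetherianRing A] (I : Ideal A) [IsAdicComplete I A]
  (P : Scheme.{u}) [P.Over (Spec (CommRingCat.of A))] [IsProper (P ↘ Spec (CommRingCat.of A))]

/-- Compatible closed subschemes of the thickenings come from a closed subscheme. -/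
theorem exists_closedAlg (Xs : ℕ → Scheme.{u}) (t : ∀ k, Xs k ⟶ Xs (k + 1)) (c : ∀ k, Xs k ⟶ P)
    [∀ k, IsClosedImmersion (c k)] (q : ∀ k, Xs k ⟶ Spec (CommRingCat.of (A ⧸ I ^ (k + 1))))
    (hcq : ∀ k, c k ≫ (P ↘ Spec (CommRingCat.of A)) = q k ≫ CohB1.specQuot I k)
    (htc : ∀ k, t k ≫ c (k + 1) = c k)
    (sq : ∀ k, IsPullback (t k) (q k) (c (k + 1) ≫ (P ↘ Spec (CommRingCat.of A))) (CohB1.specQuot I k)) :
    ∃ (Y : Scheme.{u}) (ι : Y ⟶ P) (w : ∀ k, Xs k ⟶ Y), IsClosedImmersion ι ∧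
      (∀ k, t k ≫ w (k + 1) = w k) ∧ (∀ k, w k ≫ ι = c k) ∧
      ∀ k, IsPullback (w k) (q k) (ι ≫ (P ↘ Spec (CommRingCat.of A))) (CohB1.specQuot I k) := by
  haveI : CompactSpace P := QuasiCompact.compactSpace_of_compactSpace (P ↘ Spec (CommRingCat.of A))
  haveI : IsLocallyNoetherian P := LocallyOfFiniteType.isLocallyNoetherian (P ↘ Spec (CommRingCat.of A))
  haveI : IsNoetherian P := ⟨⟩
  haveI : ∀ k, IsNoetherian (Xs k) := fun k => by
    haveI := LocallyOfFiniteType.isLocallyNoetherian (c k)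
    haveI : CompactSpace (Xs k) := QuasiCompact.compactSpace_of_compactSpace (c k)
    exact ⟨⟩
  let G : ℕ → P.Modules := fun k => (Scheme.Modules.pushforward (c k)).obj (Coh.structureModule (Xs k))
  have hG : ∀ k, Coh.IsCoh (G k) := fun k => QCoh.isCoh_pushforward_finite (c k) QCoh.isCoh_structureModule'
  let tr : ∀ k, G (k + 1) ⟶ G k := fun k => pushMap (t k) (c (k + 1)) (c k) (htc k)
  have hck : ∀ k, ∃ hz : Formal.smulFamily (I ^ (k + 1)) (G (k + 1)) ≫ tr k = 0, IsIso (cokernel.desc _ _ hz) :=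
    fun k => isCokernel_pushMap (htc k) (sq k)
  have hkill : ∀ k, Formal.KilledBy (I ^ (k + 1)) (G k) := fun k => by
    obtain ⟨hz, hiso⟩ := hck k
    haveI : Epi (tr k) := by
      haveI := hiso
      rw [← cokernel.π_desc _ _ hz]
      exact epi_comp _ _
    exact killedBy_of_epi (tr k) hz
  let F : ℕᵒᵖ ⥤ P.Modules := Functor.ofOpSequence (X := G) tr
  have hF : Formal.IsCohFormal I F := by
    refine ⟨hG, hkill, fun k => ?_⟩
    rw [show F.map (homOfLE (Nat.le_succ k)).op = tr k from Functor.ofOpSequence_map_homOfLE_succ (X := G) tr k]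
    exact hck k
  obtain ⟨M, hM, ⟨β⟩⟩ := ExistEasy.exists_algebraization_proper I P F hF
  have hO : Coh.IsCoh (Coh.structureModule P) := QCoh.isCoh_structureModule'
  have hu0 : ∀ k, Formal.smulFamily (I ^ (k + 1)) (Coh.structureModule P) ≫ unitPush (c k) = 0 := fun k => by
    refine Sigma.hom_ext _ _ fun a => ?_
    rw [comp_zero, ← Category.assoc]
    refine (congrArg (· ≫ _) (Sigma.ι_desc _ _)).trans ?_
    rw [FFun.smulMod_naturality, hkill k a.1 a.2, comp_zero]
  let τ₀ : Formal.completion I (Coh.structureModule P) ⟶ F :=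
    NatTrans.ofOpSequence (fun k => cokernel.desc _ (unitPush (c k)) (hu0 k)) fun k => by
      rw [show (Formal.completion I (Coh.structureModule P)).map (homOfLE (k.le_add_right 1)).op = Formal.modPowTrans I (k + 1) _ from
          Functor.ofOpSequence_map_homOfLE_succ _ k,
        show F.map (homOfLE (k.le_add_right 1)).op = tr k from Functor.ofOpSequence_map_homOfLE_succ (X := G) tr k]
      apply coequalizer.hom_ext
      show Formal.modPowπ I (k + 1 + 1) _ ≫ Formal.modPowTrans I (k + 1) _ ≫ _ =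
        cokernel.π _ ≫ cokernel.desc _ (unitPush (c (k + 1))) _ ≫ tr k
      rw [← Category.assoc, Formal.modPowπ_trans, cokernel.π_desc_assoc]
      exact (cokernel.π_desc _ _ _).trans (unitPush_pushMap _ _ _ _).symm
  obtain ⟨φ, hφ, -⟩ := S0060.result A I P (Coh.structureModule P) M hO hM (τ₀ ≫ β.inv)
  have hφu : ∀ k, φ ≫ Formal.modPowπ I (k + 1) M ≫ β.hom.app (op k) = unitPush (c k) := fun k => by
    rw [← Category.assoc, ← hφ k, Category.assoc]
    show Formal.modPowπ I (k + 1) _ ≫ (τ₀.app (op k) ≫ β.inv.app (op k)) ≫ β.hom.app (op k) = _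
    rw [Category.assoc, Iso.inv_hom_id_app, Category.comp_id]
    exact cokernel.π_desc _ _ _
  have hkey : ∀ k {U : P.Opens} (hU : IsAffineOpen U) (a : Γ(P, U)), (c k).app U a = 0 →
      φ.app U a ∈ (I ^ (k + 1)).map (FFun.φsec (A := A) U) • (⊤ : Submodule Γ(P, U) Γ(M, U)) := fun k U hU a ha => by
    refine FFun.mem_of_π_app_eq_zero hM.1 _ hU ?_
    refine QCoh.app_injective (β.hom.app (op k)) U ?_
    rw [map_zero]
    exact (congr(($(hφu k)).app U a)).trans ha
  haveI hep : Epi φ := by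
    have hC : Coh.IsCoh (cokernel φ) := QCoh.isCoh_cokernel hO.1 hM φ
    refine Preadditive.epi_of_isZero_cokernel φ (isZero_of_fixed_jacobson
      (IsAdicComplete.le_jacobson_bot I) hC.1 fun U hU s => ?_)
    haveI := QCoh.finite_sections hC hU
    have htop : (⊤ : Submodule Γ(P, U) Γ(cokernel φ, U)) ≤ I.map (FFun.φsec (A := A) U) • ⊤ := fun z _ => by
      obtain ⟨m, rfl⟩ := QCoh.app_surjective_of_epi hM.1 hC.1 (cokernel.π φ) hU z
      obtain ⟨a, ha⟩ := (c 0).app_surjective U hU ((Formal.modPowπ I (0 + 1) M ≫ β.hom.app (op 0)).app U m)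
      have hm : m - φ.app U a ∈ (I ^ (0 + 1)).map (FFun.φsec (A := A) U) • (⊤ : Submodule Γ(P, U) Γ(M, U)) := by
        refine FFun.mem_of_π_app_eq_zero hM.1 _ hU ?_
        refine QCoh.app_injective (β.hom.app (op 0)) U ?_
        rw [map_zero]
        show (Formal.modPowπ I (0 + 1) M ≫ β.hom.app (op 0)).app U (m - φ.app U a) = 0
        rw [map_sub, sub_eq_zero]
        exact ha.symm.trans (congr(($(hφu 0)).app U a)).symm
      rw [zero_add, pow_one] at hm
      have hz0 : (cokernel.π φ).app U (φ.app U a) = 0 := congr(($(cokernel.condition φ)).app U a)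
      rw [show (cokernel.π φ).app U m = (cokernel.π φ).app U (m - φ.app U a) by rw [map_sub, hz0, sub_zero]]
      refine Submodule.smul_induction_on hm (fun r hr n _ => ?_) fun x y hx hy => by rw [map_add]; exact add_mem hx hy
      rw [Scheme.Modules.Hom.app_smul]
      exact Submodule.smul_mem_smul hr Submodule.mem_top
    obtain ⟨r, hr, hr0⟩ := Submodule.exists_sub_one_mem_and_smul_eq_zero_of_fg_of_le_smul _ ⊤ Module.Finite.fg_top htop
    refine ⟨1 - r, ?_, by rw [sub_smul, one_smul, hr0 s Submodule.mem_top, sub_zero]⟩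
    rw [← neg_sub]
    exact neg_mem hr
  have hft : CohB1.IsFT M := hM.2
  let K := QCoh.annIdeal hM.1 hft
  have hK : ∀ (U : P.affineOpens) (a : Γ(P, U.1)), a ∈ K.ideal U ↔ φ.app U.1 a = 0 := fun U a => by
    have e : ∀ r : Γ(P, U.1), φ.app U.1 r = r • φ.app U.1 (show Γ(Coh.structureModule P, U.1) from (1 : Γ(P, U.1))) := fun r => by
      rw [← Scheme.Modules.Hom.app_smul]
      exact congrArg (φ.app U.1) (mul_one r).symm
    show a ∈ Module.annihilator Γ(P, U.1) Γ(M, U.1) ↔ _
    rw [Module.mem_annihilator, e]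
    refine ⟨fun h => h _, fun h m => ?_⟩
    obtain ⟨r, rfl⟩ := QCoh.app_surjective_of_epi hO.1 hM.1 φ U.2 m
    rw [e, smul_comm, h, smul_zero]
  have hle : ∀ k, K.subschemeι.ker ≤ (c k).ker := fun k U a ha => by
    rw [Scheme.IdealSheafData.ker_subschemeι, hK] at ha
    rw [Scheme.Hom.ker_apply, RingHom.mem_ker]
    have := congr(($(hφu k)).app U.1 a)
    rw [show (φ ≫ Formal.modPowπ I (k + 1) M ≫ β.hom.app (op k)).app U.1 a =
      (Formal.modPowπ I (k + 1) M ≫ β.hom.app (op k)).app U.1 (φ.app U.1 a) from rfl, ha, map_zero] at this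
    exact this.symm
  let w : ∀ k, Xs k ⟶ K.subscheme := fun k => IsClosedImmersion.lift K.subschemeι (c k) (hle k)
  have hw : ∀ k, w k ≫ K.subschemeι = c k := fun k => IsClosedImmersion.lift_fac _ _ _
  refine ⟨K.subscheme, K.subschemeι, w, inferInstance, fun k => ?_, hw, fun k => ?_⟩
  · rw [← cancel_mono K.subschemeι, Category.assoc, hw, hw, htc]
  have hsup : (c k).ker ≤ K ⊔ (CohB1.thickι (P ↘ Spec (CommRingCat.of A)) I k).ker := fun U a ha => by
    rw [Scheme.Hom.ker_apply, RingHom.mem_ker] at ha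
    have h1 := hkey k U.2 a ha
    have h2 : ∀ x ∈ (I ^ (k + 1)).map (FFun.φsec (A := A) U.1) • (⊤ : Submodule Γ(P, U.1) Γ(M, U.1)),
        ∃ b ∈ (I ^ (k + 1)).map (FFun.φsec (A := A) U.1), φ.app U.1 b = x := fun x hx => by
      refine Submodule.smul_induction_on hx (fun r hr n _ => ?_) fun x y ⟨b, hb, hbx⟩ ⟨b', hb', hby⟩ =>
        ⟨b + b', add_mem hb hb', by rw [← hbx, ← hby]; exact map_add _ b b'⟩
      obtain ⟨n', rfl⟩ := QCoh.app_surjective_of_epi hO.1 hM.1 φ U.2 n
      exact ⟨r * (show Γ(P, U.1) from n'), Ideal.mul_mem_right _ _ hr, Scheme.Modules.Hom.app_smul φ r n'⟩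
    obtain ⟨b, hb, hba⟩ := h2 _ h1
    rw [Scheme.IdealSheafData.ideal_sup]
    show a ∈ K.ideal U ⊔ _
    refine Submodule.mem_sup.2 ⟨a - b, ?_, b, ?_, sub_add_cancel a b⟩
    · rw [hK]
      exact (map_sub (ConcreteCategory.hom (φ.app U.1)) a b).trans (sub_eq_zero.2 hba.symm)
    · rw [show (CohB1.thickι (P ↘ Spec (CommRingCat.of A)) I k).ker.ideal U =
        (RingHom.ker (Ideal.Quotient.mk (I ^ (k + 1)))).map (str (P ↘ Spec (CommRingCat.of A)) U.1) from
        ideal_ker Ideal.Quotient.mk_surjective (IsPullback.of_hasPullback _ (CohB1.specQuot I k)) U.2, Ideal.mk_ker]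
      exact hb
  have hwsq : CommSq (w k) (q k) (K.subschemeι ≫ (P ↘ Spec (CommRingCat.of A))) (CohB1.specQuot I k) :=
    ⟨by rw [← Category.assoc, hw, hcq]⟩
  have hlift : ∀ s : PullbackCone (K.subschemeι ≫ (P ↘ Spec (CommRingCat.of A))) (CohB1.specQuot I k),
      (c k).ker ≤ (s.fst ≫ K.subschemeι).ker := fun s => by
    refine (hsup.trans (sup_le ?_ ?_))
    · exact (Scheme.IdealSheafData.ker_subschemeι K).ge.trans (Scheme.Hom.le_ker_comp _ _)
    · let l : s.pt ⟶ CohB1.thick (P ↘ Spec (CommRingCat.of A)) I k :=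
        pullback.lift (s.fst ≫ K.subschemeι) s.snd (by rw [Category.assoc]; exact s.condition)
      rw [show s.fst ≫ K.subschemeι = l ≫ CohB1.thickι (P ↘ Spec (CommRingCat.of A)) I k from
        (pullback.lift_fst _ _ _).symm]
      exact Scheme.Hom.le_ker_comp _ _
  haveI : IsClosedImmersion (CohB1.specQuot I k) := IsClosedImmersion.spec_of_surjective _ Ideal.Quotient.mk_surjective
  refine ⟨hwsq, ⟨PullbackCone.IsLimit.mk _ (fun s => IsClosedImmersion.lift (c k) (s.fst ≫ K.subschemeι) (hlift s))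
    (fun s => ?_) (fun s => ?_) (fun s m h1 _ => ?_)⟩⟩
  · rw [← cancel_mono K.subschemeι, Category.assoc, hw, IsClosedImmersion.lift_fac]
  · rw [← cancel_mono (CohB1.specQuot I k), Category.assoc, ← hcq, IsClosedImmersion.lift_fac_assoc,
      Category.assoc, s.condition]
  · rw [← cancel_mono (c k), IsClosedImmersion.lift_fac, ← hw k, ← Category.assoc, h1]

end Main

end Groth.Agent.PicLift
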