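import Groth.Agent.PicLift.Cech
import Groth.Agent.PicTorsThick
import Groth.Agent.OmegaLib.IdealMod
import Groth.Agent.SiteBase.Top
import Groth.Prelude.Def_Coh
import Groth.Agent.S0453

/-!
Invertible modules lift along a square zero thickening whose ideal has no second cohomology.
-/

set_option autoImplicit false
set_option backward.isDefEq.respectTransparency false
set_option backward.isDefEq.respectTransparency.types false
set_option linter.style.haveILetI false
set_option maxHeartbeats 1000000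

universe u

open CategoryTheory CategoryTheory.Limits AlgebraicGeometry TopologicalSpace Opposite
open Groth.Agent.AModX Groth.Agent.InvX

noncomputable section

namespace Groth.Agent.PicLift

open Groth.Agent

variable {X : Scheme.{u}} (I : X.IdealSheafData)

theorem germ_resR {V W : X.Opens} (h : W ≤ V) (z : X) (hz : z ∈ W) (a : Γ(X, V)) :
    X.presheaf.germ W z hz (resR h a) = X.presheaf.germ V z (h hz) a :=
  X.presheaf.germ_res_apply (homOfLE h) z hz a

theorem app_eq_zero_res {V W : X.Opens} (h : W ≤ V) (a : Γ(X, V)) (ha : I.subschemeι.app V a = 0) :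
    I.subschemeι.app W (resR h a) = 0 := by
  rw [PicTorsThick.app_resR, ha, map_zero]

theorem exists_affine_le {W : X.Opens} {z : X} (hz : z ∈ W) :
    ∃ C : X.Opens, IsAffineOpen C ∧ z ∈ C ∧ C ≤ W := by
  obtain ⟨_, ⟨C, hC, rfl⟩, hzC, hCW⟩ := X.isBasis_affineOpens.exists_subset_of_mem_open hz W.2
  exact ⟨C, hC, hzC, hCW⟩

/-- The germs of functions vanishing on the subscheme. -/
def kerStalk (x : X) : Ideal (X.presheaf.stalk x) where
  carrier := {z | ∃ (C : X.Opens) (hx : x ∈ C) (l : Γ(X, C)),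
    I.subschemeι.app C l = 0 ∧ X.presheaf.germ C x hx l = z}
  add_mem' := by
    rintro _ _ ⟨C, hx, l, hl, rfl⟩ ⟨D, hy, m, hm, rfl⟩
    refine ⟨C ⊓ D, ⟨hx, hy⟩, resR inf_le_left l + resR inf_le_right m, ?_, ?_⟩
    · rw [map_add, app_eq_zero_res I _ l hl, app_eq_zero_res I _ m hm, add_zero]
    · rw [map_add, germ_resR, germ_resR]
  zero_mem' := ⟨⊤, trivial, 0, map_zero _, map_zero _⟩
  smul_mem' := by
    rintro r _ ⟨C, hx, l, hl, rfl⟩
    obtain ⟨D, hy, m, rfl⟩ := X.presheaf.germ_exist r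
    refine ⟨C ⊓ D, ⟨hx, hy⟩, resR inf_le_right m * resR inf_le_left l, ?_, ?_⟩
    · rw [map_mul, app_eq_zero_res I _ l hl, mul_zero]
    · rw [map_mul, germ_resR, germ_resR]
      rfl

theorem germ_mem {C : X.Opens} {x : X} (hx : x ∈ C) (l : Γ(X, C)) (hl : I.subschemeι.app C l = 0) :
    X.presheaf.germ C x hx l ∈ kerStalk I x := ⟨C, hx, l, hl, rfl⟩

variable {I} (hI : I * I = ⊥)

include hI in
theorem isThickening : MoreMor.IsThickening I.subschemeι := by
  refine ⟨inferInstance, ⟨fun x => ?_⟩⟩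
  have h : (I * I).support = (⊥ : X.IdealSheafData).support := congrArg _ hI
  rw [Scheme.IdealSheafData.support_mul, Scheme.IdealSheafData.support_bot, sup_idem] at h
  show x ∈ Set.range I.subschemeι
  rw [Scheme.IdealSheafData.range_subschemeι, h]
  trivial

include hI in
theorem mul_eq_zero_of_mem {x : X} {a b : X.presheaf.stalk x} (ha : a ∈ kerStalk I x) (hb : b ∈ kerStalk I x) :
    a * b = 0 := by
  obtain ⟨C, hx, l, hl, rfl⟩ := ha
  obtain ⟨D, hy, m, hm, rfl⟩ := hb
  obtain ⟨V, hV, hxV, hVCD⟩ := exists_affine_le (z := x) (W := C ⊓ D) ⟨hx, hy⟩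
  have h1 : resR (hVCD.trans inf_le_left) l ∈ I.ideal ⟨V, hV⟩ := by
    rw [← I.ker_subschemeι_app, RingHom.mem_ker]
    exact app_eq_zero_res I _ l hl
  have h2 : resR (hVCD.trans inf_le_right) m ∈ I.ideal ⟨V, hV⟩ := by
    rw [← I.ker_subschemeι_app, RingHom.mem_ker]
    exact app_eq_zero_res I _ m hm
  have h3 := Ideal.mul_mem_mul h1 h2
  have e2 : (I * I).ideal ⟨V, hV⟩ = I.ideal ⟨V, hV⟩ * I.ideal ⟨V, hV⟩ := by
    rw [Scheme.IdealSheafData.ideal_mul]; rfl
  rw [← e2, hI] at h3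
  have h4 : resR (hVCD.trans inf_le_left) l * resR (hVCD.trans inf_le_right) m = 0 := by simpa using h3
  have h5 := congrArg (X.presheaf.germ V x hxV) h4
  rwa [map_mul, map_zero, germ_resR, germ_resR] at h5

variable (I) in
/-- All families of germs vanishing on the subscheme. -/
def pointG : CohTop.Ab X.toPresheafedSpace.carrier :=
  ⟨QCoh.Ab.pointwise fun x => AddCommGrpCat.of (kerStalk I x), QCoh.Ab.pointwise_isSheaf _⟩

instance : TopCat.Sheaf.IsFlasque (pointG I) := ⟨fun {U V} i => by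
  classical
  refine (AddCommGrpCat.epi_iff_surjective _).2 fun s => ?_
  refine ⟨fun x => if hx : x.1 ∈ V.unop then s ⟨x.1, hx⟩ else 0, funext fun x => ?_⟩
  exact dif_pos x.2⟩

variable (I) in
/-- The ideal in the families of germs. -/
def toPointG : Coh.toAb (ClSub.idealMod I) ⟶ pointG I :=
  ⟨{ app := fun W => AddCommGrpCat.ofHom
      { toFun := fun (k : Γ(ClSub.idealMod I, W.unop)) x =>
          (⟨X.presheaf.germ W.unop x.1 x.2 (OmegaSh.idealSect I W.unop k),
            germ_mem I x.2 _ (OmegaLib.subschemeι_app_idealSect I W.unop k)⟩ : kerStalk I x.1)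
        map_zero' := funext fun x => Subtype.ext (by
          show X.presheaf.germ W.unop x.1 x.2 (OmegaSh.idealSect I W.unop 0) = 0
          rw [map_zero, map_zero])
        map_add' := fun (a b : Γ(ClSub.idealMod I, W.unop)) => funext fun x => Subtype.ext (by
          show X.presheaf.germ W.unop x.1 x.2 (OmegaSh.idealSect I W.unop (a + b)) =
            X.presheaf.germ W.unop x.1 x.2 (OmegaSh.idealSect I W.unop a) +
              X.presheaf.germ W.unop x.1 x.2 (OmegaSh.idealSect I W.unop b)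
          rw [map_add, map_add]) }
     naturality := fun W W' i => by
      ext (k : Γ(ClSub.idealMod I, W.unop))
      refine funext fun x => Subtype.ext ?_
      show X.presheaf.germ W'.unop x.1 x.2
          (OmegaSh.idealSect I W'.unop ((ClSub.idealMod I).presheaf.map (homOfLE i.unop.le).op k)) =
        X.presheaf.germ W.unop x.1 _ (OmegaSh.idealSect I W.unop k)
      rw [OmegaLib.idealSect_map]
      exact X.presheaf.germ_res_apply _ _ _ _ }⟩

instance : Mono (toPointG I) := by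
  have : Mono (toPointG I).hom := by
    refine @NatTrans.mono_of_mono_app _ _ _ _ _ _ _ fun W => ?_
    refine ConcreteCategory.mono_of_injective _ fun (a b : Γ(ClSub.idealMod I, W.unop)) hab =>
      OmegaLib.idealSect_injective I W.unop ?_
    exact TopCat.Presheaf.section_ext X.sheaf W.unop _ _ fun x hx => congrArg Subtype.val (congrFun hab ⟨x, hx⟩)
  exact (sheafToPresheaf _ _).mono_of_mono_map this

variable (I) in
/-- The sequence of the embedding. -/
def defectSeq : ShortComplex (CohTop.Ab X.toPresheafedSpace.carrier) :=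
  ShortComplex.mk (toPointG I) (cokernel.π (toPointG I)) (cokernel.condition _)

theorem defectSeq_shortExact : (defectSeq I).ShortExact :=
  .mk' (ShortComplex.exact_of_g_is_cokernel _ (cokernelIsCokernel _))
    (inferInstanceAs (Mono (toPointG I))) (inferInstanceAs (Epi (cokernel.π _)))

theorem subsingleton_H1_quot (h2 : Subsingleton (Coh.HH X (ClSub.idealMod I) 2)) :
    Subsingleton (CohTop.H (defectSeq I).X₃ 1) := by
  refine subsingleton_of_forall_eq 0 fun x => ?_
  haveI : Subsingleton (CohTop.H (defectSeq I).X₁ (1 + 1)) := h2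
  obtain ⟨y, hy⟩ := (QCoh.Ab.connecting_eq_zero_iff defectSeq_shortExact 1 x).1 (Subsingleton.elim _ _)
  haveI : Subsingleton (CohTop.H (defectSeq I).X₂ 1) := S0453.result (pointG I) 0
  rw [← hy, Subsingleton.elim y 0, map_zero]

variable (I) in
/-- The class of a family of germs. -/
def cls {W : X.Opens} (d : ∀ x : W, kerStalk I x.1) : (defectSeq I).X₃.obj.obj (op W) :=
  (defectSeq I).g.hom.app (op W) d

theorem cls_res {V W : X.Opens} (h : W ≤ V) (d : ∀ x : V, kerStalk I x.1) :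
    rs (defectSeq I).X₃ h (cls I d) = cls I fun x => d ⟨x.1, h x.2⟩ :=
  (rs_nat (defectSeq I).g h _).symm

theorem cls_add {W : X.Opens} (d e : ∀ x : W, kerStalk I x.1) : cls I d + cls I e = cls I (d + e) :=
  (map_add ((defectSeq I).g.hom.app (op W)).hom d e).symm

theorem cls_eq_of_diff {W : X.Opens} (d e : ∀ x : W, kerStalk I x.1) (k : Γ(X, W))
    (hk : I.subschemeι.app W k = 0) (h : ∀ x : W, (d x : X.presheaf.stalk x.1) - e x = X.presheaf.germ W x.1 x.2 k) :
    cls I d = cls I e := by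
  obtain ⟨m, hm⟩ := OmegaLib.exists_idealSect_eq I W k hk
  have h0 : d - e = (defectSeq I).f.hom.app (op W) m := funext fun x => Subtype.ext (by
    show (d x : X.presheaf.stalk x.1) - e x = X.presheaf.germ W x.1 x.2 (OmegaSh.idealSect I W m)
    rw [hm, h])
  refine sub_eq_zero.1 ?_
  refine (map_sub ((defectSeq I).g.hom.app (op W)).hom d e).symm.trans ?_
  show (defectSeq I).g.hom.app (op W) (d - e) = 0
  rw [h0]
  exact QCoh.Ab.g_f_zero _ _

theorem exists_diff_of_cls_eq {W : X.Opens} (d e : ∀ x : W, kerStalk I x.1) (h : cls I d = cls I e) :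
    ∃ k : Γ(X, W), I.subschemeι.app W k = 0 ∧
      ∀ x : W, (d x : X.presheaf.stalk x.1) - e x = X.presheaf.germ W x.1 x.2 k := by
  obtain ⟨m, hm⟩ := TopCat.Sheaf.sections_exact_of_left_exact (U := W) defectSeq_shortExact.exact
    defectSeq_shortExact.mono_f (d - e) (by
      show (defectSeq I).g.hom.app (op W) (d - e) = 0
      exact (map_sub ((defectSeq I).g.hom.app (op W)).hom d e).trans (sub_eq_zero.2 h))
  exact ⟨OmegaSh.idealSect I W m, OmegaLib.subschemeι_app_idealSect I W m,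
    fun x => (congrArg Subtype.val (congrFun hm x)).symm⟩

include hI in
theorem one_add_mul {x : X} {a b : X.presheaf.stalk x} (ha : a ∈ kerStalk I x) (hb : b ∈ kerStalk I x) :
    (1 + a) * (1 + b) = 1 + (a + b) := by
  linear_combination mul_eq_zero_of_mem hI ha hb

variable (I) in
/-- The data of a lifting problem: frames over a cover and pointwise lifts of the transition functions. -/
structure Data where
  ι : Type u
  W : ι → X.Opens
  cover : ⨆ a, W a = ⊤
  g : ∀ a b, Γ(I.subscheme, I.subschemeι ⁻¹ᵁ (W a ⊓ W b))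
  isUnit_g : ∀ a b, IsUnit (g a b)
  trans : ∀ (a b c : ι) (V : X.Opens) (ha : V ≤ W a) (hb : V ≤ W b) (hc : V ≤ W c),
    resR (I.subschemeι.preimage_mono (le_inf ha hc)) (g a c) =
      resR (I.subschemeι.preimage_mono (le_inf hb hc)) (g b c) *
        resR (I.subschemeι.preimage_mono (le_inf ha hb)) (g a b)
  idx : X → ι
  idx_mem : ∀ x, x ∈ W (idx x)

namespace Data

variable (D : Data I)

/-- The transition function on a smaller open. -/
def gr (a b : D.ι) (V : X.Opens) (ha : V ≤ D.W a) (hb : V ≤ D.W b) : Γ(I.subscheme, I.subschemeι ⁻¹ᵁ V) :=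
  resR (I.subschemeι.preimage_mono (le_inf ha hb)) (D.g a b)

theorem gr_res (a b : D.ι) {V V' : X.Opens} (h : V' ≤ V) (ha : V ≤ D.W a) (hb : V ≤ D.W b) :
    resR (I.subschemeι.preimage_mono h) (D.gr a b V ha hb) = D.gr a b V' (h.trans ha) (h.trans hb) :=
  resR_resR _ _ _

/-- A lift of the transition function. -/
def IsLift (a b : D.ι) {V : X.Opens} (ha : V ≤ D.W a) (hb : V ≤ D.W b) (l : Γ(X, V)) : Prop :=
  I.subschemeι.app V l = D.gr a b V ha hb

theorem IsLift.res {a b : D.ι} {V V' : X.Opens} (h : V' ≤ V) {ha : V ≤ D.W a} {hb : V ≤ D.W b}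
    {l : Γ(X, V)} (hl : D.IsLift a b ha hb l) : D.IsLift a b (h.trans ha) (h.trans hb) (resR h l) := by
  show I.subschemeι.app V' (resR h l) = _
  rw [PicTorsThick.app_resR, hl, D.gr_res a b h]

include hI in
theorem exists_lift (a b : D.ι) {V : X.Opens} (hV : IsAffineOpen V) (ha : V ≤ D.W a) (hb : V ≤ D.W b) :
    ∃ l : Γ(X, V), D.IsLift a b ha hb l ∧ IsUnit l := by
  obtain ⟨l, hl⟩ := PicTorsThick.surjective_app I.subschemeι (isThickening hI) hV (D.gr a b V ha hb)
  refine ⟨l, hl, PicTorsThick.isUnit_of_map (I.subschemeι.app V).hom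
    (PicTorsThick.surjective_app I.subschemeι (isThickening hI) hV)
    (PicTorsThick.nil_of_app I.subschemeι (isThickening hI) hV) ?_⟩
  show IsUnit (I.subschemeι.app V l)
  rw [hl]
  exact (D.isUnit_g a b).map _

include hI in
theorem exists_pointLift (a : D.ι) (z : D.W a) : ∃ s : (X.presheaf.stalk z.1)ˣ, ∃ (V : X.Opens) (hz : z.1 ∈ V)
    (ha : V ≤ D.W a) (hb : V ≤ D.W (D.idx z.1)) (l : Γ(X, V)),
      D.IsLift a (D.idx z.1) ha hb l ∧ X.presheaf.germ V z.1 hz l = s := by
  obtain ⟨V, hV, hzV, hVW⟩ := exists_affine_le (z := z.1) (W := D.W a ⊓ D.W (D.idx z.1)) ⟨z.2, D.idx_mem _⟩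
  obtain ⟨l, hl, hu⟩ := D.exists_lift hI a (D.idx z.1) hV (hVW.trans inf_le_left) (hVW.trans inf_le_right)
  exact ⟨(hu.map (X.presheaf.germ V z.1 hzV).hom).unit, V, hzV, _, _, l, hl, rfl⟩

/-- A pointwise lift of the transition function from the chosen frame. -/
def s (a : D.ι) (z : X) (hz : z ∈ D.W a) : (X.presheaf.stalk z)ˣ :=
  (D.exists_pointLift hI a ⟨z, hz⟩).choose

/-- The pointwise cocycle. -/
def ratio (a b : D.ι) (z : X) (ha : z ∈ D.W a) (hb : z ∈ D.W b) : (X.presheaf.stalk z)ˣ :=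
  D.s hI a z ha * (D.s hI b z hb)⁻¹

theorem ratio_trans (a b c : D.ι) (z : X) (ha : z ∈ D.W a) (hb : z ∈ D.W b) (hc : z ∈ D.W c) :
    D.ratio hI a c z ha hc = D.ratio hI b c z hb hc * D.ratio hI a b z ha hb := by
  unfold ratio
  rw [mul_comm (D.s hI b z hb * _), mul_assoc, inv_mul_cancel_left]

/-- The defect of a lift. -/
theorem defect_mem {a b : D.ι} {V : X.Opens} {ha : V ≤ D.W a} {hb : V ≤ D.W b} {l : Γ(X, V)}
    (hl : D.IsLift a b ha hb l) (z : X) (hz : z ∈ V) :
    X.presheaf.germ V z hz l * ↑(D.ratio hI a b z (ha hz) (hb hz))⁻¹ - 1 ∈ kerStalk I z := by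
  obtain ⟨A, hzA, hAa, hAj, la, hla, ea⟩ := (D.exists_pointLift hI a ⟨z, ha hz⟩).choose_spec
  obtain ⟨B, hzB, hBb, hBj, lb, hlb, eb⟩ := (D.exists_pointLift hI b ⟨z, hb hz⟩).choose_spec
  let C : X.Opens := V ⊓ A ⊓ B
  have hCV : C ≤ V := inf_le_left.trans inf_le_left
  have hCA : C ≤ A := inf_le_left.trans inf_le_right
  have hCB : C ≤ B := inf_le_right
  have h0 : I.subschemeι.app C (resR hCV l * resR hCB lb - resR hCA la) = 0 := by
    rw [map_sub, map_mul, (hl.res D hCV : _), (hlb.res D hCB : _), (hla.res D hCA : _), sub_eq_zero, mul_comm]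
    exact (D.trans a b _ C (hCV.trans ha) (hCV.trans hb) (hCB.trans hBj)).symm
  have hm := germ_mem I (C := C) (x := z) ⟨⟨hz, hzA⟩, hzB⟩ _ h0
  rw [map_sub, map_mul, germ_resR, germ_resR, germ_resR] at hm
  have hm2 := (kerStalk I z).mul_mem_left (↑(D.s hI a z (ha hz))⁻¹) hm
  have e : X.presheaf.germ V z hz l * ↑(D.ratio hI a b z (ha hz) (hb hz))⁻¹ - 1 =
      ↑(D.s hI a z (ha hz))⁻¹ * (X.presheaf.germ V z hz l * X.presheaf.germ B z hzB lb -
        X.presheaf.germ A z hzA la) := by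
    rw [eb, ea]
    show _ = _ * (_ * (↑(D.s hI b z (hb hz)) : X.presheaf.stalk z) - (↑(D.s hI a z (ha hz)) : X.presheaf.stalk z))
    rw [mul_sub, Units.inv_mul, ratio, mul_inv_rev, inv_inv, Units.val_mul]
    ring
  rw [e]
  exact hm2

/-- The defect of a lift, as a family of germs. -/
def defect {a b : D.ι} {V : X.Opens} {ha : V ≤ D.W a} {hb : V ≤ D.W b} {l : Γ(X, V)}
    (hl : D.IsLift a b ha hb l) : ∀ x : V, kerStalk I x.1 := fun x =>
  ⟨_, D.defect_mem hI hl x.1 x.2⟩

theorem defect_res {a b : D.ι} {V V' : X.Opens} (h : V' ≤ V) {ha : V ≤ D.W a} {hb : V ≤ D.W b} {l : Γ(X, V)}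
    (hl : D.IsLift a b ha hb l) :
    (fun x : V' => D.defect hI hl ⟨x.1, h x.2⟩) = D.defect hI (hl.res D h) := funext fun x => Subtype.ext (by
  show X.presheaf.germ V x.1 (h x.2) l * _ - 1 = X.presheaf.germ V' x.1 x.2 (resR h l) * _ - 1
  rw [germ_resR h])

theorem cls_defect {a b : D.ι} {V : X.Opens} {ha : V ≤ D.W a} {hb : V ≤ D.W b} {l l' : Γ(X, V)}
    (hl : D.IsLift a b ha hb l) (hl' : D.IsLift a b ha hb l') (hu : IsUnit l) :
    cls I (D.defect hI hl') = cls I (D.defect hI hl) := by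
  obtain ⟨u, rfl⟩ := hu
  have h0 : I.subschemeι.app V (l' - u) = 0 := by rw [map_sub, hl', hl, sub_self]
  refine cls_eq_of_diff _ _ ((l' - u) * ↑u⁻¹) (by rw [map_mul, h0, zero_mul]) fun x => ?_
  let φ := (X.presheaf.germ V x.1 x.2).hom
  let R := D.ratio hI a b x.1 (ha x.2) (hb x.2)
  have hk : φ (l' - u) ∈ kerStalk I x.1 := germ_mem I x.2 _ h0
  have hd : φ u * ↑R⁻¹ - 1 ∈ kerStalk I x.1 := D.defect_mem hI hl x.1 x.2
  have hz := mul_eq_zero_of_mem hI hk hd
  have hu' : φ u * φ ↑u⁻¹ = 1 := by rw [← map_mul, Units.mul_inv, map_one]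
  show (φ l' * ↑R⁻¹ - 1) - (φ u * ↑R⁻¹ - 1) = φ ((l' - u) * ↑u⁻¹)
  rw [map_mul]
  rw [map_sub] at hz ⊢
  linear_combination (φ ↑u⁻¹) * hz - ((φ l' - φ ↑u) * ↑R⁻¹) * hu'

include hI in
theorem exists_obstruction (a b : D.ι) : ∃ q : (defectSeq I).X₃.obj.obj (op (D.W a ⊓ D.W b)),
    ∀ (V : X.Opens) (ha : V ≤ D.W a) (hb : V ≤ D.W b) (l : Γ(X, V)) (hl : D.IsLift a b ha hb l), IsUnit l →
      rs (defectSeq I).X₃ (le_inf ha hb) q = cls I (D.defect hI hl) := by
  let J := {V : X.Opens // IsAffineOpen V ∧ V ≤ D.W a ⊓ D.W b}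
  choose l hl hu using fun C : J =>
    D.exists_lift hI a b C.2.1 (C.2.2.trans inf_le_left) (C.2.2.trans inf_le_right)
  obtain ⟨q, hq, -⟩ := TopCat.Sheaf.existsUnique_gluing' (defectSeq I).X₃ (fun C : J => C.1) (D.W a ⊓ D.W b)
    (fun C => homOfLE C.2.2) (fun p hp => by
      obtain ⟨V, hV, hpV, hVW⟩ := exists_affine_le hp
      exact Opens.mem_iSup.2 ⟨⟨V, hV, hVW⟩, hpV⟩)
    (fun C => cls I (D.defect hI (hl C))) (fun C C' => by
      show rs (defectSeq I).X₃ inf_le_left _ = rs (defectSeq I).X₃ inf_le_right _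
      rw [cls_res, cls_res, D.defect_res hI, D.defect_res hI]
      exact D.cls_defect hI _ _ ((hu C').map _))
  refine ⟨q, fun V ha hb l' hl' hu' => ?_⟩
  refine TopCat.Sheaf.eq_of_locally_eq' (defectSeq I).X₃ (fun C : {C : J // C.1 ≤ V} => C.1.1) V
    (fun C => homOfLE C.2) (fun p hp => by
      obtain ⟨C, hC, hpC, hCV⟩ := exists_affine_le hp
      exact Opens.mem_iSup.2 ⟨⟨⟨C, hC, hCV.trans (le_inf ha hb)⟩, hCV⟩, hpC⟩) _ _ fun C => ?_
  show rs (defectSeq I).X₃ C.2 (rs (defectSeq I).X₃ (le_inf ha hb) q) = rs (defectSeq I).X₃ C.2 _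
  rw [rs_rs, cls_res, D.defect_res hI]
  exact (hq C.1).trans (D.cls_defect hI (hl'.res D C.2) (hl C.1) (hu'.map _))

include hI in
/-- The lifting: a cocycle on a refinement. -/
theorem exists_cocycle (h2 : Subsingleton (Coh.HH X (ClSub.idealMod I) 2)) :
    ∃ (V : X → X.Opens) (hV : ∀ x, x ∈ V x) (hVW : ∀ x, V x ≤ D.W (D.idx x)) (t : H23.CocycleMod.Cocycle V),
      ∀ x y, I.subschemeι.app (V x ⊓ V y) (t.g x y : Γ(X, V x ⊓ V y)) =
        D.gr (D.idx x) (D.idx y) _ (inf_le_left.trans (hVW x)) (inf_le_right.trans (hVW y)) := by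
  choose q hq using D.exists_obstruction hI
  have hqc : ∀ (a b c : D.ι) (V : X.Opens) (ha : V ≤ D.W a) (hb : V ≤ D.W b) (hc : V ≤ D.W c),
      rs (defectSeq I).X₃ (le_inf ha hc) (q a c) =
        rs (defectSeq I).X₃ (le_inf hb hc) (q b c) + rs (defectSeq I).X₃ (le_inf ha hb) (q a b) := by
    intro a b c V ha hb hc
    refine TopCat.Sheaf.eq_of_locally_eq' (defectSeq I).X₃
      (fun C : {C : X.Opens // IsAffineOpen C ∧ C ≤ V} => C.1) V (fun C => homOfLE C.2.2) (fun p hp => by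
      obtain ⟨C, hC, hpC, hCV⟩ := exists_affine_le hp
      exact Opens.mem_iSup.2 ⟨⟨C, hC, hCV⟩, hpC⟩) _ _ fun C => ?_
    obtain ⟨C, hC, hCV⟩ := C
    obtain ⟨l, hl, hu⟩ := D.exists_lift hI a b hC (hCV.trans ha) (hCV.trans hb)
    obtain ⟨l', hl', hu'⟩ := D.exists_lift hI b c hC (hCV.trans hb) (hCV.trans hc)
    have hl'' : D.IsLift a c (hCV.trans ha) (hCV.trans hc) (l' * l) := by
      show I.subschemeι.app C (l' * l) = _
      rw [map_mul, hl, hl']
      exact (D.trans a b c C (hCV.trans ha) (hCV.trans hb) (hCV.trans hc)).symm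
    show rs (defectSeq I).X₃ hCV _ = rs (defectSeq I).X₃ hCV (_ + _)
    refine Eq.trans ?_ (map_add ((defectSeq I).X₃.obj.map (homOfLE hCV).op).hom _ _).symm
    show rs (defectSeq I).X₃ hCV (rs _ _ _) = rs (defectSeq I).X₃ hCV (rs _ _ _) + rs (defectSeq I).X₃ hCV (rs _ _ _)
    rw [rs_rs, rs_rs, rs_rs, hq a c C _ _ _ hl'' (hu'.mul hu), hq b c C _ _ _ hl' hu', hq a b C _ _ _ hl hu, cls_add]
    refine congrArg (cls I) (funext fun x => Subtype.ext ?_)
    let φ := (X.presheaf.germ C x.1 x.2).hom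
    let A := D.ratio hI b c x.1 (hb (hCV x.2)) (hc (hCV x.2))
    let B := D.ratio hI a b x.1 (ha (hCV x.2)) (hb (hCV x.2))
    show φ (l' * l) * ↑(D.ratio hI a c x.1 _ _)⁻¹ - 1 = (φ l' * ↑A⁻¹ - 1) + (φ l * ↑B⁻¹ - 1)
    rw [D.ratio_trans hI a b c x.1 (ha (hCV x.2)) (hb (hCV x.2)) (hc (hCV x.2)), mul_inv, Units.val_mul, map_mul]
    linear_combination mul_eq_zero_of_mem hI (D.defect_mem hI hl' x.1 x.2) (D.defect_mem hI hl x.1 x.2)
  obtain ⟨α, hα⟩ := exists_primitive (defectSeq I).X₃ (subsingleton_H1_quot h2) D.W D.cover q hqc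
  haveI : Epi (defectSeq I).g := defectSeq_shortExact.epi_g
  have hsurj := (TopCat.Presheaf.isLocallySurjective_iff (defectSeq I).g.hom).1
    ((TopCat.Sheaf.isLocallySurjective_iff_epi (defectSeq I).g).2 inferInstance)
  choose V hVW hVt hV using fun x => hsurj (D.W (D.idx x)) (α (D.idx x)) x (D.idx_mem x)
  choose t ht using hVt
  have hWt : ∀ x, V x ≤ D.W (D.idx x) := hVW
  have ht' : ∀ x, cls I (t x) = rs (defectSeq I).X₃ (hWt x) (α (D.idx x)) := fun x => ht x
  -- the prescribed germs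
  let P : ∀ x y (z : X), z ∈ V x → z ∈ V y → X.presheaf.stalk z := fun x y z hx hy =>
    ↑(D.ratio hI (D.idx x) (D.idx y) z (hWt x hx) (hWt y hy)) *
      (1 + ((t y ⟨z, hy⟩ : X.presheaf.stalk z) - t x ⟨z, hx⟩))
  have hloc : ∀ x y (C : X.Opens), IsAffineOpen C → ∀ (hx : C ≤ V x) (hy : C ≤ V y),
      ∃ G : Γ(X, C), D.IsLift (D.idx x) (D.idx y) (hx.trans (hWt x)) (hy.trans (hWt y)) G ∧
        ∀ z (hz : z ∈ C), X.presheaf.germ C z hz G = P x y z (hx hz) (hy hz) := by
    intro x y C hC hx hy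
    obtain ⟨l, hl, hu⟩ := D.exists_lift hI (D.idx x) (D.idx y) hC (hx.trans (hWt x)) (hy.trans (hWt y))
    have hc : cls I (D.defect hI hl) = cls I ((fun z : C => t y ⟨z.1, hy z.2⟩) - fun z : C => t x ⟨z.1, hx z.2⟩) := by
      rw [← hq _ _ C _ _ l hl hu, hα]
      refine (map_sub ((defectSeq I).X₃.obj.map _).hom _ _).trans ?_
      show rs (defectSeq I).X₃ _ (rs _ _ _) - rs (defectSeq I).X₃ _ (rs _ _ _) = _
      rw [rs_rs, rs_rs]
      refine Eq.trans ?_ (map_sub ((defectSeq I).g.hom.app (op C)).hom _ _).symm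
      show _ = cls I _ - cls I _
      rw [← cls_res hy, ← cls_res hx, ht', ht', rs_rs, rs_rs]
    obtain ⟨k, hk, hkz⟩ := exists_diff_of_cls_eq _ _ hc
    refine ⟨l - l * k, ?_, fun z hz => ?_⟩
    · show I.subschemeι.app C (l - l * k) = _
      rw [map_sub, map_mul, hk, mul_zero, sub_zero, hl]
    · have e := hkz ⟨z, hz⟩
      let φ := (X.presheaf.germ C z hz).hom
      let R := D.ratio hI (D.idx x) (D.idx y) z (hWt x (hx hz)) (hWt y (hy hz))
      have hz0 := mul_eq_zero_of_mem hI (D.defect_mem hI hl z hz) (germ_mem I hz k hk)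
      change (φ l * ↑R⁻¹ - 1) - ((t y ⟨z, hy hz⟩ : X.presheaf.stalk z) - t x ⟨z, hx hz⟩) = φ k at e
      change (φ l * ↑R⁻¹ - 1) * φ k = 0 at hz0
      show φ (l - l * k) = ↑R * (1 + ((t y ⟨z, hy hz⟩ : X.presheaf.stalk z) - t x ⟨z, hx hz⟩))
      rw [map_sub, map_mul]
      have hR : (↑R : X.presheaf.stalk z) * ↑R⁻¹ = 1 := Units.mul_inv R
      linear_combination (↑R : X.presheaf.stalk z) * e - (↑R : X.presheaf.stalk z) * hz0 - (φ l - φ l * φ k) * hR
  choose G hG hGz using fun x y (C : {C : X.Opens // IsAffineOpen C ∧ C ≤ V x ⊓ V y}) =>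
    hloc x y C.1 C.2.1 (C.2.2.trans inf_le_left) (C.2.2.trans inf_le_right)
  have hcov : ∀ x y, ∀ p ∈ V x ⊓ V y, ∃ C : {C : X.Opens // IsAffineOpen C ∧ C ≤ V x ⊓ V y}, p ∈ C.1 :=
    fun x y p hp => by
    obtain ⟨C, hC, hpC, hCW⟩ := exists_affine_le hp
    exact ⟨⟨C, hC, hCW⟩, hpC⟩
  have hglue : ∀ x y, ∃ T : Γ(X, V x ⊓ V y),
      ∀ z (hz : z ∈ V x ⊓ V y), X.presheaf.germ (V x ⊓ V y) z hz T = P x y z hz.1 hz.2 := by
    intro x y
    obtain ⟨T, hT, -⟩ := existsUnique_glue (M := Coh.structureModule X)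
      (fun C : {C : X.Opens // IsAffineOpen C ∧ C ≤ V x ⊓ V y} => C.1) (fun C => C.2.2)
      (hcov x y) (G x y) fun C C' => by
      refine TopCat.Presheaf.section_ext X.sheaf (C.1 ⊓ C'.1) _ _ fun z hz => ?_
      show X.presheaf.germ _ z hz (resR inf_le_left (G x y C)) = X.presheaf.germ _ z hz (resR inf_le_right (G x y C'))
      rw [germ_resR, germ_resR, hGz, hGz]
    refine ⟨T, fun z hz => ?_⟩
    obtain ⟨C, hzC⟩ := hcov x y z hz
    have e : resR C.2.2 (show Γ(X, V x ⊓ V y) from T) = G x y C := hT C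
    rw [← germ_resR C.2.2 z hzC, e, hGz]
  choose T hT using hglue
  have happ : ∀ x y, I.subschemeι.app (V x ⊓ V y) (T x y) =
      D.gr (D.idx x) (D.idx y) _ (inf_le_left.trans (hWt x)) (inf_le_right.trans (hWt y)) := fun x y => by
    refine eq_of_locally (M := Coh.structureModule I.subscheme) _ _ fun p hp => ?_
    obtain ⟨C, hpC⟩ := hcov x y _ hp
    refine ⟨I.subschemeι ⁻¹ᵁ C.1, I.subschemeι.preimage_mono C.2.2, hpC, ?_⟩
    show resR _ (I.subschemeι.app _ (T x y)) = resR _ (D.gr _ _ _ _ _)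
    rw [← PicTorsThick.app_resR _ C.2.2, D.gr_res _ _ C.2.2]
    refine Eq.trans (congrArg (I.subschemeι.app C.1) ?_) (hG x y C)
    exact TopCat.Presheaf.section_ext X.sheaf C.1 _ _ fun z hz =>
      (germ_resR _ _ _ _).trans ((hT x y z (C.2.2 hz)).trans (hGz x y C z hz).symm)
  have hU : ∀ x y, IsUnit (T x y) := fun x y => by
    refine RingedSpace.isUnit_of_isUnit_germ X.toLocallyRingedSpace.toRingedSpace _ _ fun z hz => ?_
    show IsUnit (X.presheaf.germ (V x ⊓ V y) z hz (T x y))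
    rw [hT]
    refine (Units.isUnit _).mul ?_
    have hm := (kerStalk I z).sub_mem (t y ⟨z, hz.2⟩).2 (t x ⟨z, hz.1⟩).2
    exact IsNilpotent.isUnit_one_add ⟨2, by rw [pow_two]; exact mul_eq_zero_of_mem hI hm hm⟩
  refine ⟨V, hV, hWt, { g := fun x y => (hU x y).unit, trans := fun x y w C hx hy hw => ?_ }, fun x y => ?_⟩
  · rw [IsUnit.unit_spec, IsUnit.unit_spec, IsUnit.unit_spec]
    refine TopCat.Presheaf.section_ext X.sheaf C _ _ fun z hz => ?_
    show X.presheaf.germ C z hz (resR _ _) = X.presheaf.germ C z hz (resR _ _ * resR _ _)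
    rw [map_mul, germ_resR, germ_resR, germ_resR, hT, hT, hT]
    simp only [P]
    rw [D.ratio_trans hI (D.idx x) (D.idx y) (D.idx w) z (hWt x (hx hz)) (hWt y (hy hz)) (hWt w (hw hz)), Units.val_mul]
    have e := one_add_mul hI ((kerStalk I z).sub_mem (t w ⟨z, hw hz⟩).2 (t y ⟨z, hy hz⟩).2)
      ((kerStalk I z).sub_mem (t y ⟨z, hy hz⟩).2 (t x ⟨z, hx hz⟩).2)
    linear_combination -((↑(D.ratio hI (D.idx y) (D.idx w) z (hWt y (hy hz)) (hWt w (hw hz))) : X.presheaf.stalk z) *
      ↑(D.ratio hI (D.idx x) (D.idx y) z (hWt x (hx hz)) (hWt y (hy hz)))) * e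
  · rw [IsUnit.unit_spec]
    exact happ x y

end Data

include hI in
/-- Invertible modules on the subscheme lift. -/
theorem exists_lift (h2 : Subsingleton (Coh.HH X (ClSub.idealMod I) 2))
    (L : I.subscheme.Modules) (hL : PicF.IsInvertible L) :
    ∃ L' : X.Modules, PicF.IsInvertible L' ∧ Nonempty ((Scheme.Modules.pullback I.subschemeι).obj L' ≅ L) := by
  let i := I.subschemeι
  have hth : MoreMor.IsThickening i := isThickening hI
  have hex : ∀ x : X, ∃ (W : X.Opens), x ∈ W ∧ ∃ e : Γ(L, i ⁻¹ᵁ W), IsFrame e := fun x => by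
    obtain ⟨y, rfl⟩ := hth.2.surj x
    obtain ⟨U, hy, e, he⟩ := InvX.exists_frame hL y
    obtain ⟨V, hV, hVU⟩ := i.isClosedEmbedding.isInducing.isOpen_iff.1 U.2
    have hy' : i y ∈ V := by
      have : y ∈ i ⁻¹' V := by rw [hVU]; exact hy
      exact this
    have hle : i ⁻¹ᵁ (⟨V, hV⟩ : X.Opens) ≤ U := fun w hw => by
      have : w ∈ i ⁻¹' V := hw
      rw [hVU] at this
      exact this
    exact ⟨⟨V, hV⟩, hy', _, he.res hle⟩
  choose W hxW e he using hex
  choose g hg using fun a b : X => (he b).exists_coord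
    (i.preimage_mono (inf_le_right : W a ⊓ W b ≤ W b)) (res L (i.preimage_mono inf_le_left) (e a))
  have hgu : ∀ a b, IsUnit (g a b) := fun a b => by
    obtain ⟨c, hc⟩ := (he a).exists_coord (i.preimage_mono (inf_le_left : W a ⊓ W b ≤ W a))
      (res L (i.preimage_mono inf_le_right) (e b))
    refine IsUnit.of_mul_eq_one c ((he a).coord_unique (i.preimage_mono (inf_le_left : W a ⊓ W b ≤ W a)) ?_)
    rw [one_smul, mul_smul, ← hc]
    exact (hg a b).symm
  let D : Data I :=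
    { ι := X, W := W, cover := eq_top_iff.2 fun x _ => Opens.mem_iSup.2 ⟨x, hxW x⟩
      g := g, isUnit_g := hgu, idx := id, idx_mem := hxW
      trans := fun a b c V ha hb hc => by
        refine (he c).coord_unique (i.preimage_mono hc) ?_
        have e1 := congrArg (res L (i.preimage_mono (le_inf ha hc))) (hg a c)
        have e2 := congrArg (res L (i.preimage_mono (le_inf ha hb))) (hg a b)
        have e3 := congrArg (res L (i.preimage_mono (le_inf hb hc))) (hg b c)
        simp only [res_smul, res_res] at e1 e2 e3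
        rw [← e1, e2, e3, mul_comm, mul_smul] }
  obtain ⟨V, hV, hVW, t, ht⟩ := D.exists_cocycle hI h2
  let L' := H23.CocycleMod.mod t
  let f : ∀ a, Γ(L', V a) := H23.CocycleMod.frame t
  have hf : ∀ a, IsFrame (f a) := H23.CocycleMod.isFrame_frame t
  refine ⟨L', H23.CocycleMod.isInvertible t (eq_top_iff.2 fun x _ => Opens.mem_iSup.2 ⟨x, hV x⟩), ?_⟩
  have hVW' : ∀ a, V a ≤ W a := hVW
  refine PicTorsThick.nonempty_iso_of_transition (fun a => i ⁻¹ᵁ V a) (fun y => ⟨i y, hV (i y)⟩)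
    (fun a => pullElt i (f a)) (fun a => isFrame_pullElt i (hf a))
    (fun a => res L (i.preimage_mono (hVW' a)) (e a)) (fun a => (he a).res _)
    fun a b => ⟨i.app (V a ⊓ V b) (t.g a b : Γ(X, V a ⊓ V b)), ?_, ?_⟩
  · let η : L' ⟶ (Scheme.Modules.pushforward i).obj ((Scheme.Modules.pullback i).obj L') :=
      (Scheme.Modules.pullbackPushforwardAdjunction i).unit.app L'
    have h1 := congrArg (η.app (V a ⊓ V b)) (H23.CocycleMod.res_frame t a b)
    rw [Scheme.Modules.Hom.app_smul, app_res, app_res] at h1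
    exact h1
  · rw [ht a b, res_res, res_res]
    have h1 := congrArg (res L (i.preimage_mono (inf_le_inf (hVW' a) (hVW' b)))) (hg a b)
    rw [res_smul, res_res, res_res] at h1
    exact h1

end Groth.Agent.PicLift
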