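import Groth.Agent.PicLift.Main
import Groth.Agent.Pic13Lib.SqZeroPic
import Groth.Agent.AmpleVan.FibreVanish
import Groth.Agent.FComplLib.Spf
import Groth.Agent.FComplLib.IdealComap
import Groth.Agent.Lib.HomPushSections
import Groth.Agent.Lib.DivisorExt
import Groth.Agent.PPSheaf.Gr
import Groth.Agent.PicClLib.Basic

/-!
The ideal of a closed immersion into a closed subscheme, and Picard groups of thickenings.
-/

set_option autoImplicit false
set_option backward.isDefEq.respectTransparency false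
set_option backward.isDefEq.respectTransparency.types false
set_option linter.style.haveILetI false
set_option maxHeartbeats 800000

universe u

open CategoryTheory CategoryTheory.Limits AlgebraicGeometry TopologicalSpace Opposite

noncomputable section

namespace Groth.Agent.PicLift

open Groth.Agent Groth.Agent.AModX

variable {X Y Z : Scheme.{u}}

theorem ker_app_iff (i : Y ⟶ X) [IsClosedImmersion i] {W : X.Opens} (a : Γ(X, W)) :
    i.ker.subschemeι.app W a = 0 ↔ i.app W a = 0 := by
  haveI : IsIso i.toImage := inferInstance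
  have e : ∀ (g : Y ⟶ X), i.toImage ≫ i.ker.subschemeι = g →
      (g.app W a = 0 ↔ i.ker.subschemeι.app W a = 0) := by
    rintro _ rfl
    rw [Scheme.Hom.comp_app, CommRingCat.comp_apply]
    exact (map_eq_zero_iff _ (ConcreteCategory.bijective_of_isIso (i.toImage.app (i.ker.subschemeι ⁻¹ᵁ W))).1)
  exact (e i i.toImage_imageι).symm

variable (t : Z ⟶ Y) (i : Y ⟶ X) [IsClosedImmersion t] [IsClosedImmersion i]

/-- The sequence `0 → ideal of Y → ideal of Z → ideal of Z in Y → 0`. -/
theorem exists_ses_idealMod :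
    ∃ (a : ClSub.idealMod i.ker ⟶ ClSub.idealMod (t ≫ i).ker)
      (b : ClSub.idealMod (t ≫ i).ker ⟶ (Scheme.Modules.pushforward i).obj (ClSub.idealMod t.ker)) (w : a ≫ b = 0),
      (ShortComplex.mk a b w).ShortExact := by
  let K' := i.ker
  let K := (t ≫ i).ker
  let J := t.ker
  let P := Scheme.Modules.pushforward i
  let β := P.map (ClSub.toSubscheme J)
  have hval : ∀ (W : X.Opens) (s : Γ(ClSub.idealMod K, W)),
      t.app (i ⁻¹ᵁ W) (i.app W (OmegaSh.idealSect K W s)) = 0 := fun W s =>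
    (ker_app_iff (t ≫ i) _).1 (OmegaLib.subschemeι_app_idealSect K W s)
  have h0 : (ClSub.idealModι K ≫ ClSub.unitToPush i) ≫ β = 0 := QCoh.hom_ext_app fun W s =>
    (ker_app_iff t _).2 (hval W s)
  let hker := KernelFork.mapIsLimit _ (kernelIsKernel (ClSub.toSubscheme J)) P
  obtain ⟨b, hb⟩ := KernelFork.IsLimit.lift' hker (ClSub.idealModι K ≫ ClSub.unitToPush i) h0
  change b ≫ P.map (ClSub.idealModι J) = _ at hb
  have hK' : ClSub.idealModι K' ≫ ClSub.toSubscheme K = 0 := QCoh.hom_ext_app fun W s => by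
    show K.subschemeι.app W (OmegaSh.idealSect K' W s) = 0
    refine (ker_app_iff (t ≫ i) _).2 ?_
    rw [Scheme.Hom.comp_app, CommRingCat.comp_apply,
      (ker_app_iff i _).1 (OmegaLib.subschemeι_app_idealSect K' W s), map_zero]
  let a : ClSub.idealMod K' ⟶ ClSub.idealMod K := kernel.lift _ (ClSub.idealModι K') hK'
  have ha : a ≫ ClSub.idealModι K = ClSub.idealModι K' := kernel.lift_ι _ _ _
  haveI : Mono (ClSub.idealModι K) := inferInstanceAs (Mono (kernel.ι _))
  haveI : Mono (ClSub.idealModι K') := inferInstanceAs (Mono (kernel.ι _))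
  haveI : Mono (ClSub.idealModι J) := inferInstanceAs (Mono (kernel.ι _))
  haveI : Mono (P.map (ClSub.idealModι J)) := Functor.map_mono P _
  haveI : Mono a := mono_of_mono_fac ha
  have hi0 : ClSub.idealModι K' ≫ ClSub.unitToPush i = 0 := QCoh.hom_ext_app fun W s =>
    (ker_app_iff i _).1 (OmegaLib.subschemeι_app_idealSect K' W s)
  have w : a ≫ b = 0 := by
    rw [← cancel_mono (P.map (ClSub.idealModι J)), Category.assoc, hb, reassoc_of% ha, hi0, zero_comp]
  refine ⟨a, b, w, .mk' (ShortComplex.exact_of_f_is_kernel _ (KernelFork.IsLimit.ofι' _ _ fun {T} h hh => ?_))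
    inferInstance ?_⟩
  · have h1 : (h ≫ ClSub.idealModι K) ≫ ClSub.toSubscheme K' = 0 := QCoh.hom_ext_app fun W s => by
      refine (ker_app_iff i _).2 ?_
      have h2 : (h ≫ b) ≫ P.map (ClSub.idealModι J) = 0 := by rw [hh, zero_comp]
      rw [Category.assoc, hb] at h2
      exact congr(Scheme.Modules.Hom.app $h2 W s)
    refine ⟨kernel.lift _ _ h1, ?_⟩
    rw [← cancel_mono (ClSub.idealModι K), Category.assoc, ha]
    exact kernel.lift_ι _ _ _
  · refine Preadditive.epi_of_cancel_zero _ fun {N} g hg => QCoh.hom_eq_zero_of_affine g fun U hU s => ?_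
    let s' : Γ(ClSub.idealMod J, i ⁻¹ᵁ U) := s
    obtain ⟨r, hr⟩ := i.app_surjective U hU (OmegaSh.idealSect J (i ⁻¹ᵁ U) s')
    obtain ⟨k, hk⟩ := OmegaLib.exists_idealSect_eq K U r ((ker_app_iff (t ≫ i) r).2 (by
      rw [Scheme.Hom.comp_app, CommRingCat.comp_apply, hr]
      exact (ker_app_iff t _).1 (OmegaLib.subschemeι_app_idealSect J _ s')))
    have e : b.app U k = s := by
      have h1 := congr(Scheme.Modules.Hom.app $hb U k)
      refine OmegaLib.idealSect_injective J (i ⁻¹ᵁ U) ?_
      refine h1.trans ?_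
      show i.app U (OmegaSh.idealSect K U k) = OmegaSh.idealSect J (i ⁻¹ᵁ U) s'
      rw [hk, hr]
    rw [← e]
    exact congr(Scheme.Modules.Hom.app $hg U k)

theorem subsingleton_idealMod_of_ses (q : ℕ)
    (hK : Subsingleton (Coh.HH X (ClSub.idealMod (t ≫ i).ker) q))
    (hK' : Subsingleton (Coh.HH X (ClSub.idealMod i.ker) (q + 1))) :
    Subsingleton (Coh.HH Y (ClSub.idealMod t.ker) q) := by
  obtain ⟨a, b, w, hS⟩ := exists_ses_idealMod t i
  have h3 : Subsingleton (Coh.HH X ((Scheme.Modules.pushforward i).obj (ClSub.idealMod t.ker)) q) :=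
    subsingleton_of_forall_eq 0 fun x => by
      obtain ⟨y, hy⟩ := (QCoh.Ab.connecting_eq_zero_iff (X := X.toPresheafedSpace.carrier)
        (QCoh.toAb_shortExact hS) q x).1 (hK'.elim _ _)
      rw [← hy, hK.elim y 0, map_zero]
  obtain ⟨eq⟩ := QCoh.HH_push_of_isAffineHom i (PPSheaf.isQCoh_idealMod t.ker) q
  first
  | exact eq.toEquiv.subsingleton
  | exact eq.symm.toEquiv.subsingleton

variable {R : Type u} [CommRing R] (I : Ideal R) (f : X ⟶ Spec (CommRingCat.of R))

instance closed_thickTrans (n : ℕ) : IsClosedImmersion (CohB1.thickTrans f I n) :=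
  MorphismProperty.of_isPullback (AmpleVan.FibreVanish.cart f I n).flip
    (IsClosedImmersion.spec_of_surjective _
      (Ideal.Quotient.factor_surjective (Ideal.pow_le_pow_right (Nat.le_succ (n + 1)))))

theorem ker_thickTrans_sq (n : ℕ) :
    (CohB1.thickTrans f I n).ker * (CohB1.thickTrans f I n).ker = ⊥ := by
  haveI : IsClosedImmersion (CohB1.specQuotTrans I n) := IsClosedImmersion.spec_of_surjective _
    (Ideal.Quotient.factor_surjective (Ideal.pow_le_pow_right (Nat.le_succ (n + 1))))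
  have h : (CohB1.thickTrans f I n).ker = (CohB1.specQuotTrans I n).ker.comap (CohB1.thickToBase f I (n + 1)) := by
    have H := AmpleVan.FibreVanish.cart f I n
    rw [← Scheme.IdealSheafData.ker_fst_of_isClosedImmersion, ← Scheme.Hom.ker_comp_of_isIso H.isoPullback.hom,
      H.isoPullback_hom_fst]
  rw [h, ← FComplLib.comap_mul]
  refine Eq.trans ?_ (Scheme.IdealSheafData.comap_bot (CohB1.thickToBase f I (n + 1)))
  congr 1
  refine Scheme.IdealSheafData.ext_of_isAffine ?_
  show _ = (⊥ : Ideal _)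
  rw [Scheme.IdealSheafData.ideal_mul]
  show (CohB1.specQuotTrans I n).ker.ideal ⟨⊤, isAffineOpen_top _⟩ *
    (CohB1.specQuotTrans I n).ker.ideal ⟨⊤, isAffineOpen_top _⟩ = ⊥
  unfold CohB1.specQuotTrans
  rw [FComplLib.ker_specMap_ideal _
      (Ideal.Quotient.factor_surjective (Ideal.pow_le_pow_right (Nat.le_succ (n + 1)))),
    ← Ideal.map_mul, Ideal.Quotient.factor_ker, ← Ideal.map_mul, ← pow_add]
  have h0 : (I ^ (n + 1 + (n + 1))).map (Ideal.Quotient.mk (I ^ (n + 1 + 1))) = ⊥ := by
    rw [Ideal.map_eq_bot_iff_le_ker, Ideal.mk_ker]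
    exact Ideal.pow_le_pow_right (by omega)
  rw [h0, Ideal.map_bot]

theorem pic_thickTrans_bijective (n : ℕ)
    (h : ∀ q, 0 < q → q ≤ 2 → Subsingleton (Coh.HH X (ClSub.idealMod (CohB1.thickι f I n).ker) q))
    (h' : ∀ q, 1 < q → q ≤ 3 → Subsingleton (Coh.HH X (ClSub.idealMod (CohB1.thickι f I (n + 1)).ker) q)) :
    Formal2.PicPullbackInjective (CohB1.thickTrans f I n) ∧
      Formal2.PicPullbackSurjective (CohB1.thickTrans f I n) := by
  let t := CohB1.thickTrans f I n
  let i := CohB1.thickι f I (n + 1)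
  haveI : IsClosedImmersion i := AmpleVan.FibreVanish.closed_thickι f I (n + 1)
  have hti : (t ≫ i).ker = (CohB1.thickι f I n).ker := by rw [AmpleVan.FibreVanish.thickTrans_ι]
  have hJ : t.ker * t.ker = ⊥ := ker_thickTrans_sq I f n
  have hv : ∀ q, 0 < q → q ≤ 2 → Subsingleton (Coh.HH _ (ClSub.idealMod t.ker) q) := fun q h0 h2 =>
    subsingleton_idealMod_of_ses t i q (hti ▸ h q h0 h2) (h' (q + 1) (by omega) (by omega))
  haveI : IsIso t.toImage := inferInstance
  refine ⟨fun L hL ⟨e⟩ => ?_, fun L' hL' => ?_⟩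
  · obtain ⟨e'⟩ : Nonempty ((Scheme.Modules.pullback t.ker.subschemeι).obj L ≅
        Coh.structureModule t.ker.subscheme) := by
      refine ⟨(Scheme.Modules.pullbackCongr (show inv t.toImage ≫ t = t.ker.subschemeι by
        rw [IsIso.inv_comp_eq]; exact t.toImage_imageι.symm)).symm.app L ≪≫
        ((Scheme.Modules.pullbackComp (inv t.toImage) t).app L).symm ≪≫
        (Scheme.Modules.pullback (inv t.toImage)).mapIso e ≪≫ ?_⟩
      exact (H23.PicMul.cl_eq_iff.1 (H23.PicMul.pullCl_one (inv t.toImage))).some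
    obtain ⟨u⟩ := Pic13Lib.SqZero.nonempty_iso_structure hJ (hv 1 Nat.one_pos (by omega)) hL e'
    exact ⟨u.symm⟩
  · obtain ⟨L, hL, ⟨e⟩⟩ := exists_lift hJ (hv 2 (by omega) le_rfl)
      ((Scheme.Modules.pullback (inv t.toImage)).obj L') (PicClLib.isInvertible_pullback _ hL')
    refine ⟨L, hL, ⟨(Scheme.Modules.pullbackCongr t.toImage_imageι).symm.app L ≪≫
      ((Scheme.Modules.pullbackComp t.toImage t.ker.subschemeι).app L).symm ≪≫
      (Scheme.Modules.pullback t.toImage).mapIso e ≪≫
      (Scheme.Modules.pullbackComp t.toImage (inv t.toImage)).app L' ≪≫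
      (Scheme.Modules.pullbackCongr (IsIso.hom_inv_id t.toImage)).app L' ≪≫
      (Scheme.Modules.pullbackId _).app L'⟩⟩

end Groth.Agent.PicLift
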