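import Groth.Agent.PicLift.Flat

/-!
Adic systems: the ideal of each step is square zero and inherits vanishing from the closed fibre.
-/

set_option autoImplicit false
set_option backward.isDefEq.respectTransparency false
set_option backward.isDefEq.respectTransparency.types false
set_option linter.style.haveILetI false
set_option maxHeartbeats 800000

universe u

open CategoryTheory CategoryTheory.Limits AlgebraicGeometry TopologicalSpace Opposite

noncomputable section

namespace Groth.Agent.PicLift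

open Groth.Agent

/-- The ideal of a closed immersion cut out by a square zero ideal of the base is square zero. -/
theorem ker_sq_of_cart {B B' : Type u} [CommRing B] [CommRing B'] {X Z : Scheme.{u}}
    {f : X ⟶ Spec (CommRingCat.of B)} {Q : B →+* B'} (hQ : Function.Surjective Q)
    (h2 : RingHom.ker Q * RingHom.ker Q = ⊥)
    {t : Z ⟶ X} {g : Z ⟶ Spec (CommRingCat.of B')}
    (sq : IsPullback t g f (Spec.map (CommRingCat.ofHom Q))) : t.ker * t.ker = ⊥ := by
  haveI : IsClosedImmersion (Spec.map (CommRingCat.ofHom Q)) := IsClosedImmersion.spec_of_surjective _ hQ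
  have h : t.ker = (Spec.map (CommRingCat.ofHom Q)).ker.comap f := by
    rw [← Scheme.IdealSheafData.ker_fst_of_isClosedImmersion, ← Scheme.Hom.ker_comp_of_isIso sq.isoPullback.hom,
      sq.isoPullback_hom_fst]
  rw [h, ← FComplLib.comap_mul]
  refine Eq.trans ?_ (Scheme.IdealSheafData.comap_bot f)
  congr 1
  refine Scheme.IdealSheafData.ext_of_isAffine ?_
  show _ = (⊥ : Ideal _)
  rw [Scheme.IdealSheafData.ideal_mul]
  show (Spec.map (CommRingCat.ofHom Q)).ker.ideal ⟨⊤, isAffineOpen_top _⟩ *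
    (Spec.map (CommRingCat.ofHom Q)).ker.ideal ⟨⊤, isAffineOpen_top _⟩ = ⊥
  rw [FComplLib.ker_specMap_ideal Q hQ, ← Ideal.map_mul, h2, Ideal.map_bot]

variable {A : Type u} [CommRing A] (m : Ideal A) {Xs : ℕ → Scheme.{u}}
  {fs : ∀ n : ℕ, Xs n ⟶ Spec (CommRingCat.of (A ⧸ m ^ (n + 1)))} {ts : ∀ n : ℕ, Xs n ⟶ Xs (n + 1)}
  (hcart : ∀ n : ℕ, IsPullback (ts n) (fs n) (fs (n + 1))
    (Spec.map (CommRingCat.ofHom (Ideal.Quotient.factor (Ideal.pow_le_pow_right (Nat.le_succ (n + 1)))))))

include hcart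

theorem exists_fromZero : ∀ n : ℕ, ∃ j : Xs 0 ⟶ Xs n, IsPullback j (fs 0) (fs n)
    (Spec.map (CommRingCat.ofHom (Ideal.Quotient.factor
      (Ideal.pow_le_pow_right (Nat.add_le_add_right (Nat.zero_le n) 1))))) := by
  intro n
  induction n with
  | zero =>
    refine ⟨𝟙 _, ?_⟩
    have h : CommRingCat.ofHom (Ideal.Quotient.factor
        (Ideal.pow_le_pow_right (I := m) (Nat.add_le_add_right (Nat.zero_le 0) 1))) = 𝟙 _ :=
      CommRingCat.hom_ext (Ideal.Quotient.ringHom_ext rfl)
    rw [h, Spec.map_id]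
    exact IsPullback.of_horiz_isIso ⟨by rw [Category.comp_id, Category.id_comp]⟩
  | succ n ih =>
    obtain ⟨j, hj⟩ := ih
    refine ⟨j ≫ ts n, ?_⟩
    have H := hj.paste_horiz (hcart n)
    rw [← Spec.map_comp, ← CommRingCat.ofHom_comp, Ideal.Quotient.factor_comp] at H
    exact H

theorem isClosedImmersion_step (n : ℕ) : IsClosedImmersion (ts n) :=
  closed_of_sq (Ideal.Quotient.factor_surjective _) (hcart n)

theorem ker_sq_step (n : ℕ) : (ts n).ker * (ts n).ker = ⊥ := by
  refine ker_sq_of_cart (Ideal.Quotient.factor_surjective _) ?_ (hcart n)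
  rw [Ideal.Quotient.factor_ker, ← Ideal.map_mul, ← pow_add, Ideal.map_eq_bot_iff_le_ker, Ideal.mk_ker]
  exact Ideal.pow_le_pow_right (by omega)

theorem subsingleton_step (hflat : ∀ n, Flat (fs n)) (hm : m.IsMaximal) (hfg : m.FG) (q : ℕ)
    (h0 : Subsingleton (Coh.HH (Xs 0) (Coh.structureModule (Xs 0)) q)) (n : ℕ) :
    Subsingleton (Coh.HH (Xs (n + 1)) (ClSub.idealMod (ts n).ker) q) := by
  haveI := hflat (n + 1)
  haveI : (m ^ (0 + 1)).IsMaximal := by rwa [zero_add, pow_one]
  letI : Field (A ⧸ m ^ (0 + 1)) := Ideal.Quotient.field _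
  obtain ⟨j, hj⟩ := exists_fromZero m hcart (n + 1)
  obtain ⟨s, hs⟩ := (Ideal.FG.pow (n := n + 1) hfg : (m ^ (n + 1)).FG)
  refine subsingleton_span q (s.toList.map (Ideal.Quotient.mk _)) (Ideal.Quotient.factor_surjective _) ?_
    (Ideal.Quotient.factor_surjective _) ?_ (hcart n) hj h0
  · intro b hb
    obtain ⟨a, ha, rfl⟩ := List.mem_map.1 hb
    have ha' : a ∈ m ^ (n + 1) := hs ▸ Ideal.subset_span (Finset.mem_toList.1 ha)
    refine ⟨?_, fun x hx => ?_⟩
    · rw [Ideal.Quotient.factor_mk, Ideal.Quotient.eq_zero_iff_mem]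
      exact Ideal.pow_le_pow_right (by omega) ha'
    · obtain ⟨x, rfl⟩ := Ideal.Quotient.mk_surjective x
      rw [Ideal.Quotient.factor_mk, Ideal.Quotient.eq_zero_iff_mem] at hx
      rw [← map_mul, Ideal.Quotient.eq_zero_iff_mem]
      have h := Ideal.mul_mem_mul hx ha'
      rw [← pow_add] at h
      exact Ideal.pow_le_pow_right (by omega) h
  · rw [Ideal.Quotient.factor_ker]
    conv_lhs => rw [← hs]
    rw [Ideal.map_span]
    congr 1
    ext x
    simp

end Groth.Agent.PicLift
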