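import Groth.Agent.AmpleVan.FibreVanish
import Groth.Agent.ExistEasy.PP.Existence

/-!
Algebraization of compatible systems of coherent modules on the thickenings of a proper scheme.
-/

set_option autoImplicit false
set_option backward.isDefEq.respectTransparency false
set_option backward.isDefEq.respectTransparency.types false
set_option linter.style.haveILetI false
set_option maxHeartbeats 800000

universe u

open CategoryTheory CategoryTheory.Limits AlgebraicGeometry TopologicalSpace Opposite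

noncomputable section

namespace Groth.Agent.PicLift

open Groth.Agent

theorem killedBy_of_epi {A : Type u} [CommRing A] {J : Ideal A} {X : Scheme.{u}} [X.Over (Spec (CommRingCat.of A))]
    {M N : X.Modules} (t : M ⟶ N) [Epi t] (h : Formal.smulFamily J M ≫ t = 0) : Formal.KilledBy J N := by
  intro a ha
  rw [← cancel_epi t, comp_zero, ← FFun.smulMod_naturality t a]
  have h1 : Sigma.ι (fun _ : ↥J => M) ⟨a, ha⟩ ≫ Formal.smulFamily J M = Formal.smulMod A M a :=
    Sigma.ι_desc _ _
  rw [← h1, Category.assoc, h, comp_zero]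

variable {A : Type u} [CommRing A] [IsNoetherianRing A] (I : Ideal A) [IsAdicComplete I A]
  (X : Scheme.{u}) [X.Over (Spec (CommRingCat.of A))] [IsProper (X ↘ Spec (CommRingCat.of A))]

theorem exists_algebraize
    (L : ∀ n : ℕ, (CohB1.thick (X ↘ Spec (CommRingCat.of A)) I n).Modules) (hL : ∀ n, Coh.IsCoh (L n))
    (hLt : ∀ n, Nonempty ((Scheme.Modules.pullback (CohB1.thickTrans (X ↘ Spec (CommRingCat.of A)) I n)).obj (L (n + 1)) ≅ L n)) :
    ∃ M : X.Modules, Coh.IsCoh M ∧
      ∀ n, Nonempty ((Scheme.Modules.pullback (CohB1.thickι (X ↘ Spec (CommRingCat.of A)) I n)).obj M ≅ L n) := by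
  haveI : IsLocallyNoetherian X := LocallyOfFiniteType.isLocallyNoetherian (X ↘ Spec (CommRingCat.of A))
  let ι : ∀ n, CohB1.thick (X ↘ Spec (CommRingCat.of A)) I n ⟶ X := CohB1.thickι (X ↘ Spec (CommRingCat.of A)) I
  let adj := fun n => Scheme.Modules.pullbackPushforwardAdjunction (ι n)
  have sq : ∀ n, IsPullback (ι n) (CohB1.thickToBase (X ↘ Spec (CommRingCat.of A)) I n) (X ↘ Spec (CommRingCat.of A))
      (Spec.map (CommRingCat.ofHom (Ideal.Quotient.mk (I ^ (n + 1))))) := fun n =>
    IsPullback.of_hasPullback _ (CohB1.specQuot I n)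
  haveI hc : ∀ n, IsIso ((adj n).counit.app (L n)) := fun n => AmpleVan.isIso_counit (ι n) (hL n).1
  let P : ℕ → X.Modules := fun n => (Scheme.Modules.pushforward (ι n)).obj (L n)
  have hP : ∀ n, Coh.IsCoh (P n) := fun n => QCoh.isCoh_pushforward_finite (ι n) (hL n)
  let θ : ∀ n, (Scheme.Modules.pullback (ι n)).obj (P (n + 1)) ≅ L n := fun n =>
    (Scheme.Modules.pullbackCongr (AmpleVan.FibreVanish.thickTrans_ι (X ↘ Spec (CommRingCat.of A)) I n)).symm.app _ ≪≫
      ((Scheme.Modules.pullbackComp (CohB1.thickTrans (X ↘ Spec (CommRingCat.of A)) I n) (ι (n + 1))).app _).symm ≪≫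
      (Scheme.Modules.pullback (CohB1.thickTrans (X ↘ Spec (CommRingCat.of A)) I n)).mapIso (asIso ((adj (n + 1)).counit.app (L (n + 1)))) ≪≫
      (hLt n).some
  let t : ∀ n, P (n + 1) ⟶ P n := fun n =>
    (adj n).unit.app (P (n + 1)) ≫ (Scheme.Modules.pushforward (ι n)).map (θ n).hom
  have hq : ∀ n, ∃ h : Formal.smulFamily (I ^ (n + 1)) (P (n + 1)) ≫ t n = 0, IsIso (cokernel.desc _ _ h) := by
    intro n
    obtain ⟨h, hiso⟩ := AmpleVan.unit_desc_iso (sq n) (hP (n + 1)).1
    haveI := hiso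
    have h' : Formal.smulFamily (I ^ (n + 1)) (P (n + 1)) ≫ t n = 0 := by
      rw [← Category.assoc, h, zero_comp]
    refine ⟨h', ?_⟩
    rw [show cokernel.desc _ _ h' = cokernel.desc _ _ h ≫ (Scheme.Modules.pushforward (ι n)).map (θ n).hom from by
      rw [← cancel_epi (cokernel.π (Formal.smulFamily (I ^ (n + 1)) (P (n + 1)))), cokernel.π_desc,
        cokernel.π_desc_assoc]]
    infer_instance
  have hk : ∀ n, Formal.KilledBy (I ^ (n + 1)) (P n) := fun n a ha => by
    obtain ⟨h, hiso⟩ := hq n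
    haveI : Epi (t n) := by
      haveI := hiso
      rw [← cokernel.π_desc _ _ h]
      exact epi_comp _ _
    exact killedBy_of_epi (t n) h a ha
  let G : ℕᵒᵖ ⥤ X.Modules := Functor.ofOpSequence (X := P) t
  have hG : Formal.IsCohFormal I G := by
    refine ⟨hP, hk, fun n => ?_⟩
    rw [show G.map (homOfLE (Nat.le_succ n)).op = t n from
      Functor.ofOpSequence_map_homOfLE_succ (X := P) t n]
    exact hq n
  obtain ⟨M, hM, ⟨β⟩⟩ := ExistEasy.exists_algebraization_proper I X G hG
  refine ⟨M, hM, fun n => ?_⟩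
  obtain ⟨h, hiso⟩ := AmpleVan.unit_desc_iso (sq n) hM.1
  haveI := hiso
  let e : P n ≅ (Scheme.Modules.pushforward (ι n)).obj ((Scheme.Modules.pullback (ι n)).obj M) :=
    (β.app (op n)).symm ≪≫ asIso (cokernel.desc _ _ h)
  haveI : IsIso ((adj n).counit.app ((Scheme.Modules.pullback (ι n)).obj M)) :=
    AmpleVan.isIso_counit (ι n) (QCoh.isQCoh_pullback (ι n) hM.1)
  exact ⟨(asIso ((adj n).counit.app _)).symm ≪≫ (Scheme.Modules.pullback (ι n)).mapIso e.symm ≪≫
    asIso ((adj n).counit.app (L n))⟩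

end Groth.Agent.PicLift
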