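import Groth.Agent.AmpleVan.AdicGen
import Groth.Agent.PicLift.Adic
import Groth.Agent.PicLift.Algebraize
import Groth.Agent.SeesawX.PnSpec
import Groth.Agent.FComplLib.Thicken
import Groth.Agent.VAmpleX.Immersion
import Groth.Agent.AmpleVan.AmpleNear
import Groth.Agent.S2330
import Groth.Agent.Lib.CurveDeg

/-!
Projective embedding of an adic system with an ample invertible module.
-/

set_option autoImplicit false
set_option backward.isDefEq.respectTransparency false
set_option backward.isDefEq.respectTransparency.types false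
set_option linter.style.haveILetI false
set_option maxHeartbeats 1000000

universe u

open CategoryTheory CategoryTheory.Limits AlgebraicGeometry TopologicalSpace Opposite
open Groth.Agent.H23.PicMul

attribute [local instance] HasDerivedCategory.standard
attribute [local instance] Groth.Agent.QCoh.hasFiniteBiproducts

noncomputable section

namespace Groth.Agent.PicLift

open Groth.Agent Groth.Agent.AmpleVan Groth.Agent.SeesawX.PnSpec

variable {A : Type u} [CommRing A] {J : Ideal A}

/-- The system of structure sheaves. -/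
def unitMod [IsNoetherianRing A] (S : AdicSys A J) (hp : IsProper (S.p 0)) : AdicMod S where
  F k := Coh.structureModule (S.X k)
  coh k := haveI := S.isLocallyNoetherian hp k; QCoh.isCoh_structureModule'
  ψ k := (PicClLib.nonempty_pullback_structureModule (S.i k)).some
  noeth k := S.isLocallyNoetherian hp k

variable [IsNoetherianRing A] (S : AdicSys A J) (hp : IsProper (S.p 0))

/-- Surjectivity on global sections from vanishing. -/
theorem surjective_of_vanishing (M : AdicMod S) (hM : ∀ k, PicF.IsInvertible (M.F k)) (k : ℕ)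
    (h : Subsingleton (Coh.HH (S.X (k + 1)) ((tw (M.F (k + 1))).obj (kernel ((unitMod S hp).π k))) 1)) :
    Function.Surjective ((M.π k).app ⊤) := by
  let O := unitMod S hp
  let P := M.F (k + 1)
  haveI := isEquivalence_tw (hM (k + 1))
  haveI : (tw P).Additive := Functor.additive_of_preserves_binary_products _
  haveI := O.epi_π k
  haveI := M.epi_π k
  have hses : (ShortComplex.mk (kernel.ι (O.π k)) (O.π k) (kernel.condition _)).ShortExact :=
    { exact := ShortComplex.exact_kernel _, mono_f := inferInstance, epi_g := inferInstance }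
  have hT := hses.map_of_exact (tw P)
  have hsurj : Function.Surjective (((tw P).map (O.π k)).app ⊤) := QCoh.app_top_surjective_of_HH_one hT h
  letI := H23.PicMul.clMonoid (S.X (k + 1))
  obtain ⟨e⟩ : Nonempty ((tw P).obj (O.F (k + 1)) ≅ P) := cl_eq_iff.1
    ((cl_tensor _ _).trans (one_mul _))
  haveI : Epi ((tw P).map (O.π k)) := hT.epi_g
  haveI : Epi ((ShortComplex.mk (kernel.ι (O.π k)) (O.π k) (kernel.condition _)).map (tw P)).g := hT.epi_g
  haveI : (tw P).IsLeftAdjoint := (tw P).isLeftAdjoint_of_isEquivalence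
  have hsm : ∀ b : A, (tw P).map (Formal.smulMod A (O.F (k + 1)) b) =
      Formal.smulMod A ((tw P).obj (O.F (k + 1))) b := fun b => SheafHomX.ten_map_smulMod P (O.F (k + 1)) b
  have hkι : (tw P).map (kernel.ι (O.π k)) ≫ e.hom ≫ M.π k = 0 := by
    obtain ⟨h0, hex0⟩ := O.exact_π k
    haveI := hex0.epi_kernelLift
    haveI : Epi ((tw P).map (kernel.lift (O.π k) _ h0)) := inferInstance
    rw [← cancel_epi ((tw P).map (kernel.lift (O.π k) _ h0)), comp_zero, ← Functor.map_comp_assoc,
      kernel.lift_ι]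
    refine (isColimitCofanMkObjOfIsColimit (tw P) _ _ (coproductIsCoproduct _)).hom_ext fun b => ?_
    show (tw P).map (Sigma.ι (fun _ : ↥(J ^ (k + 1)) => O.F (k + 1)) b.as) ≫ _ = _ ≫ 0
    rw [comp_zero, ← Category.assoc, ← Functor.map_comp]
    refine (congrArg (fun z => (tw P).map z ≫ e.hom ≫ M.π k) (Sigma.ι_desc _ _)).trans ?_
    rw [hsm, ← Category.assoc, FFun.smulMod_naturality, Category.assoc, M.smulMod_π k b.as.2, comp_zero]
  let z : (tw P).obj ((Scheme.Modules.pushforward (S.i k)).obj (O.F k)) ⟶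
      (Scheme.Modules.pushforward (S.i k)).obj (M.F k) := hT.exact.desc (e.hom ≫ M.π k) hkι
  have hz : (tw P).map (O.π k) ≫ z = e.hom ≫ M.π k := hT.exact.g_desc _ _
  obtain ⟨hM0, hexM⟩ := M.exact_π k
  have hw0 : Formal.smulFamily (J ^ (k + 1)) P ≫ e.inv ≫ (tw P).map (O.π k) = 0 := by
    refine Sigma.hom_ext _ _ fun b => ?_
    rw [comp_zero, ← Category.assoc]
    refine (congrArg (· ≫ _) (Sigma.ι_desc _ _)).trans ?_
    rw [← Category.assoc, FFun.smulMod_naturality, Category.assoc, ← hsm, ← Functor.map_comp,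
      O.smulMod_π k b.2, Functor.map_zero, comp_zero]
  let w := hexM.desc (e.inv ≫ (tw P).map (O.π k)) hw0
  have hw : M.π k ≫ w = e.inv ≫ (tw P).map (O.π k) := hexM.g_desc _ _
  have hwz : w ≫ z = 𝟙 _ := by
    rw [← cancel_epi (M.π k), ← Category.assoc, hw, Category.assoc, hz, Iso.inv_hom_id_assoc]
    exact (Category.comp_id _).symm
  intro y
  obtain ⟨x, hx⟩ := hsurj (w.app ⊤ y)
  refine ⟨e.hom.app ⊤ x, ?_⟩
  refine (congr(($(hz.symm)).app ⊤ x)).trans ?_
  refine (congrArg (z.app ⊤) hx).trans ?_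
  exact congr(($hwz).app ⊤ y)

omit [IsNoetherianRing A] in
/-- Sections generating the restriction to a thickened scheme generate. -/
theorem generatedBy_lift {X Y : Scheme.{u}} (u : Y ⟶ X) [Surjective u] {M : X.Modules} (hM : PicF.IsInvertible M)
    {N : Y.Modules} (ψ : (Scheme.Modules.pullback u).obj M ≅ N) {ι : Type*} (s : ι → ProjUP.Γm M)
    (t : ι → ProjUP.Γm N) (hst : ∀ l, ψ.hom.app ⊤ (ProjUP.pullSec u M (s l)) = t l)
    (ht : ProjUP.GeneratedBy N t) : ProjUP.GeneratedBy M s := by
  have hN : PicF.IsInvertible N := H23.PicMul.isInvertible_of_iso ψ (PicClLib.isInvertible_pullback u hM)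
  refine ProjUPX.generatedBy_of_frames _ fun x => ?_
  obtain ⟨y, rfl⟩ := u.surjective x
  obtain ⟨l, U, hyU, hU⟩ := InvX.exists_frame_of_generated hN t y (ht y)
  have hone : InvX.one (InvX.ofSect (t l) ≫ ψ.inv) =
      (1 : Γ(Y, ⊤)) • (show Γ((Scheme.Modules.pullback u).obj M, ⊤) from
        InvX.pullElt u (U := ⊤) (InvX.one (InvX.ofSect (s l)))) := by
    rw [one_smul, InvX.one_ofSect]
    show ψ.inv.app ⊤ (InvX.one (InvX.ofSect (t l))) = _
    rw [InvX.one_ofSect, ← hst l]
    exact congr(($(ψ.hom_inv_id)).app ⊤ (ProjUP.pullSec u M (s l)))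
  have hgl := AmpleVan.Near.genLocus_pullElt u hM (InvX.ofSect (s l)) (InvX.ofSect (t l) ≫ ψ.inv) isUnit_one hone
  have hy : y ∈ CohB1.genLocus N (InvX.ofSect (t l)) :=
    InvX.le_genLocus _ (by rw [InvX.one_ofSect]; exact hU) hyU
  rw [← InvX.genLocus_comp_iso (InvX.ofSect (t l)) ψ.symm] at hy
  have hy' : u y ∈ CohB1.genLocus M (InvX.ofSect (s l)) := hgl.le hy
  obtain ⟨V, hxV, hV⟩ := InvX.mem_genLocus hy'
  rw [InvX.one_ofSect] at hV
  exact ⟨l, V, hxV, hV⟩

omit [IsNoetherianRing A] in
/-- Morphisms to projective space with the same coordinates agree. -/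
theorem eq_of_carry {N : ℕ} {X : Scheme.{u}} (r r' : X ⟶ CohB1.ProjSpace N A)
    (h : r ≫ CohB1.ProjSpace.toSpec N A = r' ≫ CohB1.ProjSpace.toSpec N A) {L : X.Modules}
    {s : Fin (N + 1) → ProjUP.Γm L}
    {τ : (Scheme.Modules.pullback r).obj (Twist.twistProjSpace N A 1) ≅ L}
    {τ' : (Scheme.Modules.pullback r').obj (Twist.twistProjSpace N A 1) ≅ L}
    (c : Carry τ (fun l => ProjUP.pullSec r _ (ProjUP.coord N A l)) s)
    (c' : Carry τ' (fun l => ProjUP.pullSec r' _ (ProjUP.coord N A l)) s) : r = r' :=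
  S3573.result N r r' h (τ ≪≫ τ'.symm) (c.trans c'.symm)

include hp in
/-- The embedding. -/
theorem exists_embedding (L : ∀ k, (S.X k).Modules) (hL : ∀ k, PicF.IsInvertible (L k))
    (φ : ∀ k, Nonempty ((Scheme.Modules.pullback (S.i k)).obj (L (k + 1)) ≅ L k)) (ha : CohB1.IsAmple (L 0)) :
    ∃ (N n : ℕ) (_ : 0 < n) (r : ∀ k, S.X k ⟶ CohB1.ProjSpace N A),
      (∀ k, IsClosedImmersion (r k)) ∧
      (∀ k, r k ≫ CohB1.ProjSpace.toSpec N A = S.p k ≫ CohB1.specQuot J k) ∧
      (∀ k, S.i k ≫ r (k + 1) = r k) ∧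
      ∀ k, Nonempty ((Scheme.Modules.pullback (r k)).obj (Twist.twistProjSpace N A 1) ≅
        CohB1.tensorPow (L k) n) := by
  haveI hp0 := S.isProper_str₀ hp
  obtain ⟨n₀, hn₀⟩ := (unitMod S hp).exists_vanishing hp L hL φ ha
  obtain ⟨n₁, hn₁⟩ := (S2330.result (S.X 0 ↘ Spec (CommRingCat.of A)) (L 0) (hL 0)).2 ha
  let n := max n₀ n₁ + 1
  let M : AdicMod S :=
    { F := fun k => CohB1.tensorPow (L k) n
      coh := fun k => haveI := S.isLocallyNoetherian hp k
        CurveDeg.isCoh_of_isInvertible (InvX.isInvertible_tensorPow (hL k) n)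
      ψ := fun k => (cl_eq_iff.1 (show PicF.pullCl (S.i k) (PicF.cl (CohB1.tensorPow (L (k + 1)) n)) =
          PicF.cl (CohB1.tensorPow (L k) n) by
        rw [cl_tensorPow, cl_tensorPow, pullCl_pow]
        exact congrArg (· ^ n) (cl_eq_iff.2 (φ k)))).some
      noeth := fun k => S.isLocallyNoetherian hp k }
  have hM : ∀ k, PicF.IsInvertible (M.F k) := fun k => InvX.isInvertible_tensorPow (hL k) n
  have hsurj : ∀ k, Function.Surjective ((M.π k).app ⊤) := fun k =>
    surjective_of_vanishing S hp M hM k ((hn₀ n (by omega) k 0).2)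
  obtain ⟨N, i₀, hi₀, hi₀w, ⟨e₀⟩⟩ := hn₁ n (by omega)
  obtain ⟨a, ha₁, ⟨τa⟩⟩ := SeesawX.PnSpec.exists_iso N A
  let r₀ : S.X 0 ⟶ CohB1.ProjSpace N A := i₀ ≫ a.hom
  let τ₀ : (Scheme.Modules.pullback r₀).obj (Twist.twistProjSpace N A 1) ≅ M.F 0 :=
    ((Scheme.Modules.pullbackComp i₀ a.hom).app _).symm ≪≫ (Scheme.Modules.pullback i₀).mapIso τa ≪≫ e₀.symm
  have hr₀w : r₀ ≫ CohB1.ProjSpace.toSpec N A = S.p 0 ≫ CohB1.specQuot J 0 := by
    show (i₀ ≫ a.hom) ≫ _ = _
    rw [Category.assoc, ha₁]
    exact hi₀w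
  haveI : IsImmersion r₀ := by haveI := hi₀; infer_instance
  haveI hPN := PnCoh.Chow.isProper_toSpec N A
  haveI : IsProper r₀ := by
    haveI : IsProper (r₀ ≫ CohB1.ProjSpace.toSpec N A) := by rw [hr₀w]; exact hp0
    exact IsProper.of_comp r₀ (CohB1.ProjSpace.toSpec N A)
  haveI hcl0 : IsClosedImmersion r₀ := IsClosedImmersion.of_isPreimmersion r₀ r₀.isClosedMap.isClosed_range
  choose lift hlift using fun (k : ℕ) (y : ProjUP.Γm (M.F k)) => hsurj k y
  let s : ∀ k, Fin (N + 1) → ProjUP.Γm (M.F k) :=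
    fun k => Nat.rec (motive := fun k => Fin (N + 1) → ProjUP.Γm (M.F k))
      (fun l => τ₀.hom.app ⊤ (ProjUP.pullSec r₀ _ (ProjUP.coord N A l))) (fun k sk l => lift k (sk l)) k
  have hs : ∀ k l, (M.ψ k).hom.app ⊤ (ProjUP.pullSec (S.i k) (M.F (k + 1)) (s (k + 1) l)) = s k l :=
    fun k l => hlift k (s k l)
  have hgen : ∀ k, ProjUP.GeneratedBy (M.F k) (s k) := by
    intro k
    induction k with
    | zero =>
      refine generatedBy_lift (𝟙 _) (hM 0)
        ((Scheme.Modules.pullbackId _).app _ ≪≫ τ₀.symm) _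
        (fun l => ProjUP.pullSec r₀ _ (ProjUP.coord N A l)) (fun l => ?_) (generatedBy_pullSec N r₀)
      exact ((carry_pullbackId (M.F 0) (s 0)).trans
        (Carry.symm (τ := τ₀) (s := fun l => ProjUP.pullSec r₀ _ (ProjUP.coord N A l)) (t := s 0) fun _ => rfl)) l
    | succ k ih =>
      haveI : Surjective (S.i k) := by
        haveI : Surjective (S.j k ≫ S.i k) := AdicSys.surjective_j S (k + 1)
        exact Surjective.of_comp (S.j k) (S.i k)
      exact generatedBy_lift (S.i k) (hM (k + 1)) (M.ψ k) _ _ (hs k) ih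
  choose r hrw τ hτ using fun k => S3572.result (R := A) N (S.p k ≫ CohB1.specQuot J k) (M.F k) (hM k) (s k) (hgen k)
  have hcomp : ∀ k, S.i k ≫ r (k + 1) = r k := fun k => by
    have c1 : Carry (τ (k + 1)) (fun l => ProjUP.pullSec (r (k + 1)) _ (ProjUP.coord N A l)) (s (k + 1)) := hτ (k + 1)
    refine eq_of_carry _ _ ?_ ((carry_comp (S.i k) (r (k + 1)) _ (ProjUP.coord N A)).symm.trans
      ((c1.pull (S.i k)).trans (fun l => hs k l : Carry (M.ψ k) _ _))) (hτ k)
    rw [Category.assoc, hrw, hrw]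
    exact S.i_over k
  have hr0 : r 0 = r₀ :=
    eq_of_carry _ _ (by rw [hrw, hr₀w]) (hτ 0) (τ' := τ₀) (fun l => rfl)
  let π := CohB1.ProjSpace.toSpec N A
  let e : ∀ k, S.X k ⟶ CohB1.thick π J k := fun k => pullback.lift (r k) (S.p k) (hrw k)
  have hce : ∀ k, IsClosedImmersion (e k) → IsClosedImmersion (r k) := fun k h => by
    haveI : IsClosedImmersion (CohB1.specQuot J k) := IsClosedImmersion.spec_of_surjective _ Ideal.Quotient.mk_surjective
    haveI : IsClosedImmersion (CohB1.thickι π J k) := MorphismProperty.pullback_fst (P := @IsClosedImmersion) _ _ inferInstance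
    rw [show r k = e k ≫ CohB1.thickι π J k from (pullback.lift_fst _ _ _).symm]
    infer_instance
  have hcl : ∀ k, IsClosedImmersion (e k) := by
    intro k
    induction k with
    | zero =>
      haveI : IsClosedImmersion (e 0 ≫ CohB1.thickι π J 0) := by
        rw [show e 0 ≫ CohB1.thickι π J 0 = r₀ from (pullback.lift_fst _ _ _).trans hr0]
        exact hcl0
      exact IsClosedImmersion.of_comp (e 0) (CohB1.thickι π J 0)
    | succ k ih =>
      have sq : IsPullback (S.i k) (e k) (e (k + 1)) (CohB1.thickTrans π J k) := by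
        refine IsPullback.of_bot (v₂₁ := CohB1.thickToBase π J k) (v₂₂ := CohB1.thickToBase π J (k + 1))
          (h₃₁ := CohB1.specQuotTrans J k) ?_ ?_ (AmpleVan.FibreVanish.cart π J k)
        · rw [pullback.lift_snd, pullback.lift_snd]
          exact S.cart k
        · apply pullback.hom_ext
          · rw [Category.assoc, Category.assoc, pullback.lift_fst,
              show CohB1.thickTrans π J k ≫ pullback.fst _ _ = CohB1.thickι π J k from AmpleVan.FibreVanish.thickTrans_ι π J k,
              pullback.lift_fst, hcomp]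
          · rw [Category.assoc, Category.assoc, pullback.lift_snd,
              show CohB1.thickTrans π J k ≫ pullback.snd _ _ = CohB1.thickToBase π J k ≫ CohB1.specQuotTrans J k from
                (AmpleVan.FibreVanish.cart π J k).w,
              pullback.lift_snd_assoc]
            exact (S.cart k).w
      haveI : IsClosedImmersion (CohB1.specQuotTrans J k) :=
        IsClosedImmersion.spec_of_surjective _ (Ideal.Quotient.factor_surjective (Ideal.pow_le_pow_right (show k + 1 ≤ k + 1 + 1 by omega)))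
      haveI : IsClosedImmersion (CohB1.thickTrans π J k) :=
        MorphismProperty.of_isPullback (AmpleVan.FibreVanish.cart π J k).flip inferInstance
      haveI : Surjective (S.i k) := by
        haveI : Surjective (S.j k ≫ S.i k) := AdicSys.surjective_j S (k + 1)
        exact Surjective.of_comp (S.j k) (S.i k)
      refine FComplLib.isClosedImmersion_of_thickening sq (m := 2) ?_
      rw [pow_two]
      refine ker_sq_of_cart (Ideal.Quotient.factor_surjective (Ideal.pow_le_pow_right (show k + 1 ≤ k + 1 + 1 by omega))) ?_ (AmpleVan.FibreVanish.cart π J k)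
      rw [Ideal.Quotient.factor_ker, ← Ideal.map_mul, ← pow_add, Ideal.map_eq_bot_iff_le_ker, Ideal.mk_ker]
      exact Ideal.pow_le_pow_right (by omega)
  exact ⟨N, n, Nat.succ_pos _, r, fun k => hce k (hcl k), hrw, hcomp, fun k => ⟨τ k⟩⟩

end Groth.Agent.PicLift
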