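import Groth.Agent.PicLift.ClosedAlg
import Groth.Agent.PicLift.Embed
import Groth.Agent.AmpleVan.AmpleNear
import Groth.Agent.AmpleVan.Pull
import Groth.Agent.AmpleX.Rel
import Groth.Agent.Lib.CurveDualPrep
import Groth.Agent.S7864

/-!
Algebraization of an adic system carrying an ample invertible module.
-/

set_option autoImplicit false
set_option backward.isDefEq.respectTransparency false
set_option backward.isDefEq.respectTransparency.types false
set_option linter.style.haveILetI false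
set_option maxHeartbeats 1000000

universe u

open CategoryTheory CategoryTheory.Limits AlgebraicGeometry TopologicalSpace Opposite

noncomputable section

namespace Groth.Agent.PicLift

open Groth.Agent Groth.Agent.AmpleVan

/-- A point killed by the ideal lifts to the quotient. -/
theorem exists_residue_lift {A : Type u} [CommRing A] (I : Ideal A) (n : ℕ) (y : PrimeSpectrum A)
    (hy : I ≤ y.asIdeal) :
    ∃ σ : Spec ((Spec (CommRingCat.of A)).residueField y) ⟶ Spec (CommRingCat.of (A ⧸ I ^ (n + 1))),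
      σ ≫ CohB1.specQuot I n = (Spec (CommRingCat.of A)).fromSpecResidueField y := by
  let φ := Spec.preimage ((Spec (CommRingCat.of A)).fromSpecResidueField y)
  have hφ : Spec.map φ = (Spec (CommRingCat.of A)).fromSpecResidueField y := Spec.map_preimage _
  have hkill : ∀ a ∈ I ^ (n + 1), φ.hom a = 0 := fun a ha => by
    let p : PrimeSpectrum ((Spec (CommRingCat.of A)).residueField y) := ⟨⊥, Ideal.isPrime_bot⟩
    have h1 : (Spec.map φ) p = y := by
      rw [hφ]
      exact Scheme.fromSpecResidueField_apply _ p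
    have h2 : Ideal.comap φ.hom ⊥ = y.asIdeal := congrArg PrimeSpectrum.asIdeal h1
    have h3 : a ∈ Ideal.comap φ.hom ⊥ := h2 ▸ hy (Ideal.pow_le_self (Nat.succ_ne_zero n) ha)
    exact Ideal.mem_bot.1 h3
  refine ⟨Spec.map (CommRingCat.ofHom (Ideal.Quotient.lift (I ^ (n + 1)) φ.hom hkill)), ?_⟩
  rw [← hφ, CohB1.specQuot, ← Spec.map_comp]
  rfl

variable {A : Type u} [CommRing A] [IsNoetherianRing A] {I : Ideal A} [IsAdicComplete I A]
  (S : AdicSys A I) (hp : IsProper (S.p 0))

include hp in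
/-- Grothendieck's algebraization. -/
theorem exists_algebraization (L : ∀ k, (S.X k).Modules) (hL : ∀ k, PicF.IsInvertible (L k))
    (φ : ∀ k, Nonempty ((Scheme.Modules.pullback (S.i k)).obj (L (k + 1)) ≅ L k)) (ha : CohB1.IsAmple (L 0)) :
    ∃ (Y : Scheme.{u}) (g : Y ⟶ Spec (CommRingCat.of A)) (M : Y.Modules) (e : ∀ k, S.X k ⟶ Y),
      IsProper g ∧ PicF.IsInvertible M ∧ CohB1.IsAmple M ∧
      (∀ k, IsPullback (e k) (S.p k) g (CohB1.specQuot I k)) ∧ (∀ k, e k = S.i k ≫ e (k + 1)) ∧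
      ∀ k, Nonempty ((Scheme.Modules.pullback (e k)).obj M ≅ L k) := by
  obtain ⟨N, n, -, r, hr, hrw, hri, -⟩ := exists_embedding S hp L hL φ ha
  let P := CohB1.ProjSpace N A
  letI : P.Over (Spec (CommRingCat.of A)) := ⟨CohB1.ProjSpace.toSpec N A⟩
  haveI : IsProper (P ↘ Spec (CommRingCat.of A)) := PnCoh.Chow.isProper_toSpec N A
  haveI := hr
  obtain ⟨Y, ι, w, hι, hwi, hwr, hsq⟩ := exists_closedAlg I P S.X S.i r S.p hrw hri (fun k => by
    have h := S.square_i k
    rw [show S.X (k + 1) ↘ Spec (CommRingCat.of A) = r (k + 1) ≫ (P ↘ Spec (CommRingCat.of A)) from (hrw (k + 1)).symm] at h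
    exact h)
  haveI := hι
  letI : Y.Over (Spec (CommRingCat.of A)) := ⟨ι ≫ (P ↘ Spec (CommRingCat.of A))⟩
  let g := Y ↘ Spec (CommRingCat.of A)
  haveI hg : IsProper g := inferInstanceAs (IsProper (ι ≫ (P ↘ Spec (CommRingCat.of A))))
  haveI : IsLocallyNoetherian Y := LocallyOfFiniteType.isLocallyNoetherian g
  have hsq' : ∀ k, IsPullback (w k) (S.p k) g (CohB1.specQuot I k) := hsq
  let θ : ∀ k, S.X k ≅ CohB1.thick g I k := fun k => (hsq' k).isoPullback
  have hθ : ∀ k, (θ k).hom ≫ CohB1.thickι g I k = w k := fun k => (hsq' k).isoPullback_hom_fst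
  have hθb : ∀ k, (θ k).hom ≫ CohB1.thickToBase g I k = S.p k := fun k => (hsq' k).isoPullback_hom_snd
  have hθi : ∀ k, S.i k ≫ (θ (k + 1)).hom = (θ k).hom ≫ CohB1.thickTrans g I k := fun k => by
    refine pullback.hom_ext ?_ ?_
    · rw [Category.assoc, Category.assoc,
        show CohB1.thickTrans g I k ≫ pullback.fst _ _ = CohB1.thickι g I k from FibreVanish.thickTrans_ι g I k,
        show (θ (k + 1)).hom ≫ pullback.fst _ _ = w (k + 1) from hθ (k + 1), hθ, hwi]
    · rw [Category.assoc, Category.assoc,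
        show (θ (k + 1)).hom ≫ pullback.snd _ _ = S.p (k + 1) from hθb (k + 1),
        show CohB1.thickTrans g I k ≫ pullback.snd _ _ = CohB1.thickToBase g I k ≫ CohB1.specQuotTrans I k from
          (FibreVanish.cart g I k).w]
      exact (S.cart k).w.trans (by rw [← hθb k, Category.assoc])
  let L' : ∀ k, (CohB1.thick g I k).Modules := fun k => (Scheme.Modules.pullback (θ k).inv).obj (L k)
  haveI : ∀ k, IsLocallyNoetherian (CohB1.thick g I k) := fun k => by
    haveI : IsClosedImmersion (CohB1.specQuot I k) := AdicSys.closed_specQuot I k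
    exact LocallyOfFiniteType.isLocallyNoetherian (CohB1.thickι g I k)
  have hL' : ∀ k, PicF.IsInvertible (L' k) := fun k => PicClLib.isInvertible_pullback _ (hL k)
  obtain ⟨M, hM, he⟩ := exists_algebraize I Y L' (fun k => AmpleVan.isCoh_invertible (hL' k)) fun k => by
    obtain ⟨e⟩ := φ k
    have hc : CohB1.thickTrans g I k ≫ (θ (k + 1)).inv = (θ k).inv ≫ S.i k := by
      rw [Iso.eq_inv_comp, ← Category.assoc, ← hθi, Category.assoc, Iso.hom_inv_id, Category.comp_id]
    exact ⟨(Scheme.Modules.pullbackComp _ _).app _ ≪≫ (Scheme.Modules.pullbackCongr hc).app _ ≪≫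
      ((Scheme.Modules.pullbackComp _ _).app _).symm ≪≫ (Scheme.Modules.pullback (θ k).inv).mapIso e⟩
  have hinv : PicF.IsInvertible M := CurveDuality.isInvertible_of_rank_one
    (S7864.result A I Y g M hM 1 fun k => by
      obtain ⟨e⟩ := he k
      exact finLocFree_of_ker (CohB1.thickι g I k) (ker_thickι g I k) M (H23.PicMul.isInvertible_of_iso e.symm (hL' k)))
  have hwM : ∀ k, Nonempty ((Scheme.Modules.pullback (w k)).obj M ≅ L k) := fun k => by
    obtain ⟨e⟩ := he k
    exact ⟨(Scheme.Modules.pullbackCongr (hθ k)).symm.app M ≪≫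
      ((Scheme.Modules.pullbackComp (θ k).hom (CohB1.thickι g I k)).app M).symm ≪≫
      (Scheme.Modules.pullback (θ k).hom).mapIso e ≪≫ (Scheme.Modules.pullbackComp (θ k).hom (θ k).inv).app (L k) ≪≫
      (Scheme.Modules.pullbackCongr (θ k).hom_inv_id).app (L k) ≪≫ (Scheme.Modules.pullbackId _).app (L k)⟩
  refine ⟨Y, g, M, w, hg, hinv, ?_, hsq', fun k => (hwi k).symm, hwM⟩
  refine (AmpleX.isRelAmple_iff_isAmple g M).1 (AmpleX.isRelAmple_of_ampleOn fun x => ?_)
  let p : PrimeSpectrum A := g x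
  obtain ⟨m, hm, hpm⟩ := p.asIdeal.exists_le_maximal p.isPrime.ne_top
  let y : Spec (CommRingCat.of A) := (⟨m, hm.isPrime⟩ : PrimeSpectrum A)
  have hym : IsClosed ({y} : Set (Spec (CommRingCat.of A))) :=
    (PrimeSpectrum.isClosed_singleton_iff_isMaximal _).2 hm
  have hxy : g x ⤳ y := (PrimeSpectrum.le_iff_specializes p ⟨m, hm.isPrime⟩).1 hpm
  obtain ⟨σ, hσ⟩ := exists_residue_lift I 0 (⟨m, hm.isPrime⟩ : PrimeSpectrum A)
    ((IsAdicComplete.le_jacobson_bot I).trans (sInf_le ⟨bot_le, hm⟩))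
  have hw0 : g.fiberι y ≫ g = (g.fiberToSpecResidueField y ≫ σ) ≫ CohB1.specQuot I 0 := by
    rw [Category.assoc, hσ]
    exact g.fiber_fac y
  let l : g.fiber y ⟶ S.X 0 := (hsq' 0).lift (g.fiberι y) (g.fiberToSpecResidueField y ≫ σ) hw0
  have hl : l ≫ w 0 = g.fiberι y := (hsq' 0).lift_fst _ _ _
  have hle : Topology.IsEmbedding l.base := by
    refine Topology.IsEmbedding.of_comp l.continuous (w 0).continuous ?_
    rw [← show ((l ≫ w 0 : g.fiber y ⟶ Y) : g.fiber y → Y) = (w 0) ∘ l from rfl, hl]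
    exact (g.fiberι y).isEmbedding
  haveI : CompactSpace (g.fiber y) := QuasiCompact.compactSpace_of_compactSpace (g.fiberToSpecResidueField y)
  obtain ⟨e0⟩ := hwM 0
  have hfib : CohB1.IsAmple ((Scheme.Modules.pullback (g.fiberι y)).obj M) :=
    AmpleX.isAmple_of_iso ((Scheme.Modules.pullback l).mapIso e0.symm ≪≫
      (Scheme.Modules.pullbackComp l (w 0)).app M ≪≫ (Scheme.Modules.pullbackCongr hl).app M)
      (isAmple_pullback_of_isEmbedding l hle ha)
  obtain ⟨V, hyV, hV⟩ := Near.exists_nhds_isAmple g hinv y hfib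
  obtain ⟨_, ⟨W, hW, rfl⟩, hyW, hWV⟩ :=
    (Spec (CommRingCat.of A)).isBasis_affineOpens.exists_subset_of_mem_open (show y ∈ (V : Set _) from hyV) V.2
  exact ⟨W, _, (g ⁻¹ᵁ W).ι, inferInstance, hxy.mem_open W.2 hyW, by rw [Scheme.Opens.opensRange_ι],
    hV W hWV hW⟩

end Groth.Agent.PicLift
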