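import Groth.Agent.QCoh.Ab.Godement
import Groth.Agent.QCoh.Ab.Push
import Groth.Agent.QCoh.Ab.Cartan
import Groth.Agent.QCoh.Ab.CechBridge

/-!
Cocycles of degree one with values in a sheaf without first cohomology are coboundaries.
-/

set_option autoImplicit false
set_option backward.isDefEq.respectTransparency false
set_option backward.isDefEq.respectTransparency.types false

universe u

open CategoryTheory CategoryTheory.Limits TopologicalSpace Opposite

namespace Groth.Agent.PicLift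

open Groth.Agent.QCoh.Ab

variable {X : TopCat.{u}}

/-- Restriction. -/
abbrev rs (F : CohTop.Ab X) {W V : Opens X} (h : W ≤ V) (s : F.obj.obj (op V)) : F.obj.obj (op W) :=
  F.obj.map (homOfLE h).op s

theorem rs_rs (F : CohTop.Ab X) {W V T : Opens X} (h : W ≤ V) (h' : V ≤ T) (s : F.obj.obj (op T)) :
    rs F h (rs F h' s) = rs F (h.trans h') s :=
  map_map'' F.obj (homOfLE h') (homOfLE h) (homOfLE (h.trans h')) s

theorem rs_nat {F G : CohTop.Ab X} (φ : F ⟶ G) {W V : Opens X} (h : W ≤ V) (s : F.obj.obj (op V)) :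
    φ.hom.app (op W) (rs F h s) = rs G h (φ.hom.app (op V) s) :=
  congr($(φ.hom.naturality (homOfLE h).op) s)

/-- A cocycle with values in a sheaf with vanishing first cohomology is a coboundary. -/
theorem exists_primitive (F : CohTop.Ab X) (h1 : Subsingleton (CohTop.H F 1)) {ι : Type u}
    (U : ι → Opens X) (hcov : ⨆ i, U i = ⊤) (q : ∀ a b : ι, F.obj.obj (op (U a ⊓ U b)))
    (hq : ∀ (a b c : ι) (W : Opens X) (ha : W ≤ U a) (hb : W ≤ U b) (hc : W ≤ U c),
      rs F (le_inf ha hc) (q a c) = rs F (le_inf hb hc) (q b c) + rs F (le_inf ha hb) (q a b)) :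
    ∃ a : ∀ i, F.obj.obj (op (U i)), ∀ i j,
      q i j = rs F inf_le_right (a j) - rs F inf_le_left (a i) := by
  classical
  let G : CohTop.Ab X := godement F
  let φ : F ⟶ G := toGodement F
  let T := ShortComplex.mk φ (cokernel.π φ) (cokernel.condition φ)
  have hT : T.ShortExact := .mk' (ShortComplex.exact_of_g_is_cokernel _ (cokernelIsCokernel φ))
    (inferInstanceAs (Mono (toGodement F))) inferInstance
  have hj : ∀ x : X, ∃ i, x ∈ U i := fun x => Opens.mem_iSup.1 (hcov.symm ▸ Opens.mem_top x)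
  choose j hjx using hj
  let k : ∀ i, G.obj.obj (op (U i)) := fun i x =>
    (TopCat.Sheaf.presheaf F).germ (U (j x.1) ⊓ U i) x.1 ⟨hjx x.1, x.2⟩ (q (j x.1) i)
  have hk : ∀ a b, φ.hom.app (op (U a ⊓ U b)) (q a b) = rs G inf_le_right (k b) - rs G inf_le_left (k a) :=
    fun a b => funext fun x => by
    obtain ⟨x, hxa, hxb⟩ := x
    let W : Opens X := U (j x) ⊓ U a ⊓ U b
    have hxW : x ∈ W := ⟨⟨hjx x, hxa⟩, hxb⟩
    have e := congrArg ((TopCat.Sheaf.presheaf F).germ W x hxW) (hq (j x) a b W (inf_le_left.trans inf_le_left)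
      (inf_le_left.trans inf_le_right) inf_le_right)
    rw [map_add] at e
    simp only [rs] at e
    erw [TopCat.Presheaf.germ_res_apply, TopCat.Presheaf.germ_res_apply,
      TopCat.Presheaf.germ_res_apply] at e
    show (TopCat.Sheaf.presheaf F).germ (U a ⊓ U b) x ⟨hxa, hxb⟩ (q a b) =
      (TopCat.Sheaf.presheaf F).germ (U (j x) ⊓ U b) x _ (q (j x) b) - (TopCat.Sheaf.presheaf F).germ (U (j x) ⊓ U a) x _ (q (j x) a)
    rw [eq_sub_iff_add_eq]
    exact e.symm
  obtain ⟨V, hV, -⟩ := TopCat.Sheaf.existsUnique_gluing' T.X₃ U ⊤ (fun i => homOfLE le_top) hcov.ge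
    (fun i => T.g.hom.app (op (U i)) (k i)) (fun a b => by
      show rs T.X₃ inf_le_left _ = rs T.X₃ inf_le_right _
      rw [← rs_nat, ← rs_nat, eq_comm, ← sub_eq_zero, ← map_sub, ← hk]
      exact g_f_zero _ _)
  haveI : Subsingleton (CohTop.H T.X₁ (0 + 1)) := h1
  obtain ⟨y, hy⟩ := (connecting_eq_zero_iff hT 0
    ((Sheaf.H.equiv₀ T.X₃ isTerminalTop).symm V)).1 (Subsingleton.elim _ _)
  let K : G.obj.obj (op ⊤) := Sheaf.H.equiv₀ G isTerminalTop y
  have hK : T.g.hom.app (op ⊤) K = V :=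
    (Sheaf.H.equiv₀_naturality isTerminalTop T.g y).trans
      ((congrArg (Sheaf.H.equiv₀ T.X₃ isTerminalTop) hy).trans (Equiv.apply_symm_apply _ _))
  have hex : ∀ i, ∃ a, φ.hom.app (op (U i)) a = k i - rs G le_top K := fun i =>
    TopCat.Sheaf.sections_exact_of_left_exact (U := U i) hT.exact hT.mono_f _ (by
      show T.g.hom.app (op (U i)) (k i - rs G le_top K) = 0
      rw [map_sub, rs_nat, hK, sub_eq_zero]
      exact (hV i).symm)
  choose a ha using hex
  refine ⟨a, fun i l => sections_f_injective hT _ ?_⟩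
  show φ.hom.app (op (U i ⊓ U l)) (q i l) = φ.hom.app (op (U i ⊓ U l)) _
  have hs : ∀ {W V : Opens X} (h : W ≤ V) (s t : G.obj.obj (op V)), rs G h (s - t) = rs G h s - rs G h t :=
    fun h s t => map_sub _ s t
  rw [map_sub, rs_nat, rs_nat, ha, ha, hk, hs, hs, rs_rs, rs_rs]
  abel

end Groth.Agent.PicLift
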